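import Cfsg.Agent.H64.M24Triple.OctPerm

/-!
In type M(24) the members are outside the derived group: transfer to the stabiliser of a flag, which
has odd index and a character of order two that is nontrivial on its members.
-/

set_option autoImplicit false

namespace Cfsg.Agent.H64.M24Triple

open Cfsg.Agent.H93 Equiv H99.BoundedPres

variable {G : Type*} [Group G] {D : Set G}

theorem zPerm_mul_zPerm : ∀ i j : Fin 6, i ≠ j →
    zPerm i * zPerm j = swap (Sum.inl 0) (Sum.inr i) * swap (Sum.inl 1 : M8) (Sum.inr j) := by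
  decide +kernel

/-- the bound of Carmichael in any universe -/
theorem card_le_of_carmichael {X : Type*} [Group X] [Finite X] {I : Type*} [Fintype I] (z : I → X)
    (h3 : ∀ i, z i ^ 3 = 1) (h2 : ∀ i j, i ≠ j → (z i * z j) ^ 2 = 1) :
    2 * Nat.card ↥(Subgroup.closure (Set.range z)) ≤ (Fintype.card I + 2).factorial := by
  set Y := Subgroup.closure (Set.range z) with hY
  haveI : Small.{0} ↥Y := small_of_injective (Finite.equivFin ↥Y).injective
  let φ : Shrink.{0} ↥Y ≃* ↥Y := Shrink.mulEquiv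
  let z0 : I → Shrink.{0} ↥Y := fun i => φ.symm ⟨z i, Subgroup.subset_closure ⟨i, rfl⟩⟩
  have h := card_le_carmichael' z0
    (fun i => φ.injective (Subtype.ext (by simp [z0, h3 i])))
    (fun i j hij => φ.injective (Subtype.ext (by simp [z0, h2 i j hij]))) ?_
  · rw [← Nat.card_congr φ.toEquiv]; exact h.2
  · rw [show Set.range z0 = φ.symm '' ((Y.subtype) ⁻¹' Set.range z) by
      ext x
      constructor
      · rintro ⟨i, rfl⟩; exact ⟨_, ⟨i, rfl⟩, rfl⟩
      · rintro ⟨y, ⟨i, hi⟩, rfl⟩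
        exact ⟨i, congrArg φ.symm (Subtype.ext hi)⟩]
    have hc : Subgroup.closure ((Y.subtype) ⁻¹' Set.range z) = ⊤ :=
      Subgroup.closure_closure_coe_preimage
    rw [show (φ.symm '' ((Y.subtype) ⁻¹' Set.range z)) =
      φ.symm.toMonoidHom '' ((Y.subtype) ⁻¹' Set.range z) from rfl, ← MonoidHom.map_closure, hc]
    exact Subgroup.map_top_of_surjective _ φ.symm.surjective

theorem mem_or_mul_mem {K : Subgroup G} {a g : G} (ha : a * a = 1)
    (hn : ∀ k ∈ K, a * k * a⁻¹ ∈ K) (hg : g ∈ K ⊔ Subgroup.zpowers a) : g ∈ K ∨ g * a ∈ K := by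
  have ha' : a⁻¹ = a := inv_eq_of_mul_eq_one_left ha
  let S : Subgroup G :=
    { carrier := {g | g ∈ K ∨ g * a ∈ K}
      one_mem' := Or.inl K.one_mem
      mul_mem' := by
        rintro x y (hx | hx) (hy | hy)
        · exact Or.inl (mul_mem hx hy)
        · exact Or.inr (by rw [mul_assoc]; exact mul_mem hx hy)
        · refine Or.inr ?_
          have := mul_mem hx (hn y hy)
          rwa [show x * a * (a * y * a⁻¹) = x * (a * a) * y * a⁻¹ by group, ha, mul_one, ha'] at this
        · refine Or.inl ?_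
          have := mul_mem hx (hn _ hy)
          rwa [show x * a * (a * (y * a) * a⁻¹) = x * (a * a) * y by group, ha, mul_one] at this
      inv_mem' := by
        rintro x (hx | hx)
        · exact Or.inl (inv_mem hx)
        · refine Or.inr ?_
          have := hn _ (inv_mem hx)
          rwa [mul_inv_rev, ha', show a * (a * x⁻¹) * a = (a * a) * (x⁻¹ * a) by group, ha,
            one_mul] at this }
  have hle : K ⊔ Subgroup.zpowers a ≤ S :=
    sup_le (fun x hx => Or.inl hx) (Subgroup.zpowers_le.mpr (Or.inr (by rw [ha]; exact K.one_mem)))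
  exact hle hg

namespace IsFlag

variable [Finite G] {O A : Set G}

/-- a character of the stabiliser of a flag, nontrivial on all its members -/
theorem exists_char (hF : IsFlag D O A) (h : Hyp D) :
    ∃ χ : ↥(flagSub O A) →* Multiplicative (ZMod 2),
      ∀ y (hy : y ∈ flagSub O A), y ∈ D → χ ⟨y, hy⟩ ≠ 1 := by
  classical
  obtain ⟨a, b, c, K, iK, iKF, hK, ⟨C⟩⟩ := h.exists_coord' hF
  set H := flagSub O A with hH
  have haA : a ∈ A := hF.octad_subset C.triple_mem.1
  have haH : a ∈ H := hF.plane_le h haA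
  have haa : a * a = 1 := h.core.tt.sq a C.ht.ha
  set N := (kerSub D O A).subgroupOf H with hN
  haveI : N.Normal := ⟨fun k hk g => by
    rw [hN, Subgroup.mem_subgroupOf] at hk ⊢
    exact hF.kerSub_conj h g.2 hk⟩
  let e : M8 ≃ ↥O := (Fintype.equivFinOfCardEq (show Fintype.card M8 = 8 from rfl)).trans
    (Finite.equivFinOfCardEq (show Nat.card ↥O = 8 by rw [Nat.card_coe_set_eq, hF.oct.ncard])).symm
  have hker : N ≤ (perm (A := A) e).ker := fun k hk => by
    rw [MonoidHom.mem_ker]
    refine Equiv.ext fun i => ?_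
    exact (perm_fixed e k i).mpr (hF.kerSub_commute h hk (e i).2)
  let π : ↥H ⧸ N →* Perm M8 := QuotientGroup.lift N (perm e) hker
  let z : ↥H ⧸ N := QuotientGroup.mk ⟨a, haH⟩
  have hz2 : z * z = 1 := by
    rw [← QuotientGroup.mk_mul, show (⟨a, haH⟩ : ↥H) * ⟨a, haH⟩ = 1 from Subtype.ext haa]; rfl
  have hzne : z ≠ 1 := fun q => C.notMem_kerSub h
    (Subgroup.mem_subgroupOf.mp ((QuotientGroup.eq_one_iff _).mp q))
  have hzmem : ∀ g : ↥H, (g : G) ∈ A → (QuotientGroup.mk g : ↥H ⧸ N) = z := fun g hg => by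
    refine QuotientGroup.eq.mpr (Subgroup.mem_subgroupOf.mpr ?_)
    show (g : G)⁻¹ * a ∈ kerSub D O A
    rw [h.core.tt.inv_eq (hF.subset_mem hg)]
    exact hF.pair_mem hg haA
  have hzc : ∀ x, x * z = z * x := fun x => by
    obtain ⟨g, rfl⟩ := QuotientGroup.mk_surjective x
    have hconj : (g : G) * a * (g : G)⁻¹ ∈ A := (Set.ext_iff.mp g.2.2 _).mp ⟨a, haA, rfl⟩
    have e1 : (QuotientGroup.mk (g * ⟨a, haH⟩ * g⁻¹) : ↥H ⧸ N) = z := hzmem _ hconj
    rw [QuotientGroup.mk_mul, QuotientGroup.mk_mul, QuotientGroup.mk_inv, mul_inv_eq_iff_eq_mul] at e1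
    exact e1
  have hπz : π z = 1 := by
    show perm e (⟨a, haH⟩ : ↥H) = 1
    exact Equiv.ext fun i => (perm_fixed e _ i).mpr (hF.commute_octad h haA (e i).2)
  have hkerπ : ∀ x, π x = 1 → x = 1 ∨ x = z := by
    intro x hx
    obtain ⟨g, rfl⟩ := QuotientGroup.mk_surjective x
    have hx' : perm e g = 1 := hx
    have hfix : ∀ o ∈ O, Commute (g : G) o := fun o ho => by
      have := (perm_fixed e g (e.symm ⟨o, ho⟩)).mp (by rw [hx']; rfl)
      rwa [e.apply_symm_apply] at this
    rcases mem_or_mul_mem haa (fun k hk => hF.kerSub_conj h haH hk) (C.mem_sup_of_fix h g.2 hfix) with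
      q | q
    · exact Or.inl ((QuotientGroup.eq_one_iff _).mpr (Subgroup.mem_subgroupOf.mpr q))
    · refine Or.inr ?_
      have e1 : (QuotientGroup.mk (g * ⟨a, haH⟩) : ↥H ⧸ N) = 1 :=
        (QuotientGroup.eq_one_iff _).mpr (Subgroup.mem_subgroupOf.mpr q)
      rw [QuotientGroup.mk_mul] at e1
      exact (eq_inv_of_mul_eq_one_left e1).trans (inv_eq_of_mul_eq_one_left hz2)
  have hsame : ∀ x y, π x = π y → x = y ∨ x = y * z := fun x y q => by
    rcases hkerπ (y⁻¹ * x) (by rw [map_mul, map_inv, q, inv_mul_cancel]) with r | r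
    · exact Or.inl (inv_mul_eq_one.mp r).symm
    · exact Or.inr (inv_mul_eq_iff_eq_mul.mp r)
  have hdouble : ∀ {p q r s : M8}, p ≠ q → p ≠ r → p ≠ s → q ≠ r → q ≠ s → r ≠ s →
      ∀ x, π x = swap p q * swap r s → x * x = 1 := by
    intro p q r s h1 h2 h3 h4 h5 h6 x hx
    obtain ⟨g, hg, eg⟩ := hF.exists_double_perm h e h1 h2 h3 h4 h5 h6
    have g2 : (QuotientGroup.mk g : ↥H ⧸ N) * QuotientGroup.mk g = 1 := by
      rw [← QuotientGroup.mk_mul, hg]; rfl
    rcases hsame x (QuotientGroup.mk g) (hx.trans eg.symm) with rfl | rfl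
    · exact g2
    · rw [mul_assoc, ← mul_assoc z, ← hzc, mul_assoc, hz2, mul_one, g2]
  have hlift : ∀ i : Fin 6, ∃ x : ↥H ⧸ N, π x = zPerm i ∧ x ^ 3 = 1 := by
    intro i
    obtain ⟨g, hg⟩ := hF.mem_range_of_even h e (zPerm_mem i)
    set x : ↥H ⧸ N := QuotientGroup.mk g
    have hx : π x = zPerm i := hg
    have h3 : π (x ^ 3) = 1 := by rw [map_pow, hx, zPerm_cube]
    have h6 : x ^ 6 = 1 := by
      rcases hkerπ _ h3 with q | q
      · rw [show (6 : ℕ) = 3 + 3 from rfl, pow_add, q, one_mul]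
      · rw [show (6 : ℕ) = 3 + 3 from rfl, pow_add, q, hz2]
    refine ⟨x ^ 4, ?_, ?_⟩
    · rw [map_pow, hx, pow_succ, zPerm_cube, one_mul]
    · rw [← pow_mul, show 4 * 3 = 6 * 2 from rfl, pow_mul, h6, one_pow]
  choose zz hzz h3 using hlift
  set Y := Subgroup.closure (Set.range zz) with hY
  have hcard : 2 * Nat.card ↥Y ≤ (Fintype.card (Fin 6) + 2).factorial :=
    card_le_of_carmichael zz h3 fun i j hij => by
      rw [pow_two]
      refine hdouble (p := Sum.inl 0) (q := Sum.inr i) (r := Sum.inl 1) (s := Sum.inr j) (by simp)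
        (by simp) (by simp) (by simp) (by simpa using hij) (by simp) _ ?_
      rw [map_mul, hzz, hzz, zPerm_mul_zPerm i j hij]
  have hYmap : Y.map π = alternatingGroup M8 := by
    refine le_antisymm ?_ ?_
    · rw [hY, MonoidHom.map_closure, Subgroup.closure_le]
      rintro _ ⟨_, ⟨i, rfl⟩, rfl⟩
      rw [hzz]; exact zPerm_mem i
    · intro σ hσ
      have hle : (Subgroup.closure (Set.range (zA (I := Fin 6)))).map
          (alternatingGroup M8).subtype ≤ Y.map π := by
        rw [MonoidHom.map_closure, Subgroup.closure_le]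
        rintro _ ⟨_, ⟨i, rfl⟩, rfl⟩
        exact ⟨zz i, Subgroup.subset_closure ⟨i, rfl⟩, hzz i⟩
      rw [zA_gen] at hle
      exact hle ⟨⟨σ, hσ⟩, trivial, rfl⟩
  have hinj : Function.Injective (π.comp Y.subtype) := by
    let f : ↥Y → ↥(alternatingGroup M8) := fun y => ⟨π y, hYmap.le ⟨y, y.2, rfl⟩⟩
    have hf : Function.Surjective f := fun ⟨σ, hσ⟩ => by
      obtain ⟨y, hy, e⟩ := hYmap.ge hσ
      exact ⟨⟨y, hy⟩, Subtype.ext e⟩
    have : 2 * Nat.card ↥(alternatingGroup M8) = (Fintype.card (Fin 6) + 2).factorial := by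
      convert two_mul_card (I := Fin 6) using 4
    have hle := Nat.card_le_card_of_surjective f hf
    have hb : Function.Bijective f := (Nat.bijective_iff_surjective_and_card f).mpr ⟨hf, by omega⟩
    exact fun x y q => hb.1 (Subtype.ext q)
  have hzY : z ∉ Y := fun q => hzne (congrArg Subtype.val
    (hinj (show π.comp Y.subtype ⟨z, q⟩ = π.comp Y.subtype 1 by rw [map_one]; exact hπz)))
  have hall : ∀ x, x ∈ Y ∨ x * z ∈ Y := by
    intro x
    have hx : π x ∈ alternatingGroup M8 := by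
      obtain ⟨g, rfl⟩ := QuotientGroup.mk_surjective x
      exact hF.perm_even h e g
    obtain ⟨y, hy, hyx⟩ := hYmap.ge hx
    rcases hsame x y hyx.symm with rfl | rfl
    · exact Or.inl hy
    · exact Or.inr (by rwa [mul_assoc, hz2, mul_one])
  have hidx : Y.index = 2 := by
    refine Subgroup.index_eq_two_iff.mpr ⟨z, fun x => ?_⟩
    rcases hall x with q | q
    · exact Or.inr ⟨q, fun q' => hzY (by simpa using mul_mem (inv_mem q) q')⟩
    · exact Or.inl ⟨q, fun q' => hzY (by simpa using mul_mem (inv_mem q') q)⟩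
  let χ0 : ↥H ⧸ N →* Multiplicative (ZMod 2) :=
    MonoidHom.mk' (fun x => if x ∈ Y then 1 else Multiplicative.ofAdd 1) fun x y => by
      by_cases hx : x ∈ Y <;> by_cases hy : y ∈ Y <;>
        simp [Subgroup.mul_mem_iff_of_index_two hidx, hx, hy, ← ofAdd_add,
          show (1 : ZMod 2) + 1 = 0 from rfl]
  refine ⟨χ0.comp (QuotientGroup.mk' N), fun y hy hyD => ?_⟩
  have hyO : ∀ o ∈ O, Commute o y := by
    by_contra hn
    push Not at hn
    obtain ⟨o, ho, hnc⟩ := hn
    have hm : y * o * y ∈ O := by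
      have := (Set.ext_iff.mp hy.1 _).mp ⟨o, ho, rfl⟩
      rwa [h.core.tt.inv_eq hyD] at this
    have hoD := hF.oct.subset ho
    rw [h.core.tt.braid hyD hoD fun q => hnc q.symm] at hm
    have e1 : o * (o * y * o) = o * y * o * o := (hF.oct.commute ho hm).eq
    have hsq := h.core.tt.sq o hoD
    rw [← mul_assoc, ← mul_assoc, hsq, one_mul, mul_assoc (o * y), hsq, mul_one] at e1
    exact hnc e1.symm
  have hyA := hF.member_mem h hyD hyO hy.2
  show (if (QuotientGroup.mk (⟨y, hy⟩ : ↥H) : ↥H ⧸ N) ∈ Y then 1 else Multiplicative.ofAdd 1) ≠ 1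
  rw [hzmem _ hyA, if_neg hzY]
  decide

end IsFlag

/-! ### transfer -/

/-- transfer to a subgroup of odd index -/
theorem exists_hom_of_odd [Finite G] (H : Subgroup G) (hodd : ¬ 2 ∣ H.index)
    (χ : ↥H →* Multiplicative (ZMod 2)) (y : G) (hy : y * y = 1)
    (h : ∀ (g : G) (hg : g⁻¹ * y * g ∈ H), χ ⟨g⁻¹ * y * g, hg⟩ ≠ 1) :
    ∃ f : G →* Multiplicative (ZMod 2), f y ≠ 1 := by
  classical
  have h2 : ∀ m : Multiplicative (ZMod 2), m ≠ 1 → m = Multiplicative.ofAdd 1 := by decide
  haveI : Fintype (G ⧸ H) := Fintype.ofFinite _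
  refine ⟨MonoidHom.transfer χ, ?_⟩
  haveI : Fintype (Quotient (MulAction.orbitRel (Subgroup.zpowers y) (G ⧸ H))) := Fintype.ofFinite _
  rw [MonoidHom.transfer_eq_prod_quotient_orbitRel_zpowers_quot χ y]
  have hy2 : y ^ 2 = 1 := by rw [pow_two, hy]
  have hper : ∀ q : G ⧸ H, Function.minimalPeriod (y • ·) q ∣ 2 := fun q =>
    Function.IsPeriodicPt.minimalPeriod_dvd (show (y • ·)^[2] q = q by
      rw [smul_iterate, hy2]; exact one_smul G q)
  have hterm : ∀ o : Quotient (MulAction.orbitRel (Subgroup.zpowers y) (G ⧸ H)),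
      χ ⟨o.out.out⁻¹ * y ^ Function.minimalPeriod (y • ·) o.out * o.out.out,
        QuotientGroup.out_conj_pow_minimalPeriod_mem H y o.out⟩ =
      Multiplicative.ofAdd (1 : ZMod 2) ^ Function.minimalPeriod (y • ·) o.out := by
    intro o
    rcases (Nat.dvd_prime Nat.prime_two).1 (hper o.out) with h1 | h1
    · have hm := QuotientGroup.out_conj_pow_minimalPeriod_mem H y o.out
      simp only [h1, pow_one] at hm ⊢
      exact h2 _ (h _ hm)
    · refine ((congrArg χ (Subtype.ext (show _ = (1 : G) from ?_))).trans (map_one χ)).trans ?_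
      · simp only [h1, hy2]
        group
      · rw [h1]; decide
  rw [Finset.prod_congr rfl fun o _ => hterm o, Finset.prod_pow_eq_pow_sum]
  have hsum : ∑ o : Quotient (MulAction.orbitRel (Subgroup.zpowers y) (G ⧸ H)),
      Function.minimalPeriod (y • ·) o.out = H.index := by
    rw [Subgroup.index_eq_card, Nat.card_congr (MulAction.selfEquivSigmaOrbits (Subgroup.zpowers y) _),
      Nat.card_sigma]
    refine Finset.sum_congr rfl fun o _ => ?_
    rw [MulAction.minimalPeriod_eq_card, Nat.card_eq_fintype_card]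
    exact Fintype.card_congr (Equiv.refl _)
  obtain ⟨k, hk⟩ := Nat.odd_iff.2 (Nat.two_dvd_ne_zero.1 hodd)
  rw [hsum, hk, pow_succ, pow_mul, show Multiplicative.ofAdd (1 : ZMod 2) ^ 2 = 1 from by decide,
    one_pow, one_mul]
  decide

namespace Hyp

variable [Finite G] (h : Hyp D)

include h

/-- some flag is normalised by a Sylow two subgroup -/
theorem exists_flag : ∃ O A, IsFlag D O A ∧ ¬ 2 ∣ (flagSub O A).index := by
  classical
  haveI : Fact (Nat.Prime 2) := ⟨Nat.prime_two⟩
  obtain ⟨S⟩ := (inferInstance : Nonempty (Sylow 2 G))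
  letI : MulAction ↥(S : Subgroup G) {O : Set G // IsOctad D O} :=
    { smul := fun g O => ⟨conjSet (g : G) O.1, O.2.conj h.core _⟩
      one_smul := fun O => Subtype.ext (conjSet_one O.1)
      mul_smul := fun g k O => Subtype.ext (conjSet_mul (g : G) k O.1) }
  have hodd : ¬ 2 ∣ Nat.card {O : Set G // IsOctad D O} := by
    have := h.odd_octads
    rw [← Nat.card_coe_set_eq] at this
    exact Nat.two_dvd_ne_zero.mpr (Nat.odd_iff.mp this)
  obtain ⟨⟨O, hO⟩, hfix⟩ := S.isPGroup'.nonempty_fixed_point_of_prime_not_dvd_card _ hodd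
  have hfixO : ∀ g ∈ (S : Subgroup G), conjSet g O = O := fun g hg =>
    congrArg Subtype.val (hfix ⟨g, hg⟩)
  letI : MulAction ↥(S : Subgroup G) {A : Set G // A ∈ Planes D O} :=
    { smul := fun g A => ⟨conjSet (g : G) A.1, by
        have := conjSet_planes h.core (g : G) A.2
        rwa [hfixO _ g.2] at this⟩
      one_smul := fun A => Subtype.ext (conjSet_one A.1)
      mul_smul := fun g k A => Subtype.ext (conjSet_mul (g : G) k A.1) }
  have h3 : Nat.card {A : Set G // A ∈ Planes D O} = 3 :=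
    (Nat.card_coe_set_eq _).trans (h.planes_three hO)
  obtain ⟨⟨A, hA⟩, hfixA⟩ :=
    S.isPGroup'.nonempty_fixed_point_of_prime_not_dvd_card {A : Set G // A ∈ Planes D O}
      (by rw [h3]; decide)
  refine ⟨O, A, ⟨hO, hA⟩, fun hd => S.not_dvd_index (hd.trans (Subgroup.index_dvd_of_le ?_))⟩
  exact fun g hg => ⟨hfixO g hg, congrArg Subtype.val (hfixA ⟨g, hg⟩)⟩

/-- a homomorphism of order two nontrivial on a member -/
theorem exists_sign {a : G} (ha : a ∈ D) : ∃ f : G →* Multiplicative (ZMod 2), f a ≠ 1 := by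
  obtain ⟨O, A, hF, hodd⟩ := h.exists_flag
  obtain ⟨χ, hχ⟩ := hF.exists_char h
  refine exists_hom_of_odd _ hodd χ a (h.core.tt.sq a ha) fun g hg => hχ _ hg ?_
  have := h.core.tt.conj_mem g⁻¹ a ha
  rwa [inv_inv] at this

/-- members are outside the derived group -/
theorem notMem_commutator {a : G} (ha : a ∈ D) : a ∉ commutator G := by
  obtain ⟨f, hf⟩ := h.exists_sign ha
  exact fun q => hf (Abelianization.commutator_subset_ker f q)

end Hyp

end Cfsg.Agent.H64.M24Triple
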