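import Cfsg.Agent.H61.M24.Count
import Cfsg.Agent.H64.M24Triple.Parity

/-!
Groups of type M(24) satisfy the facts used for the centraliser of a triple; members are outside the
derived group.
-/

set_option autoImplicit false

namespace Cfsg.Agent.H64.M24Triple

open Cfsg.Agent.H93

variable {G : Type*} [Group G] [Finite G] {D : Set G}

theorem hyp_of_geo24 (h : H61.M24.Geo24 D) : Hyp D where
  core := h.data.core
  ind := h.data.ind
  cent := h.cent
  self _ ha := h.data.self_mem ha
  two _ ha k hk := (h.center_iff ha k).mp hk
  res a ha := (h.data.res a ha).1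
  card := by
    obtain ⟨a, ha⟩ := h.data.nonempty
    exact h.card_members ha

theorem hyp_of_M24 (hD : Cfsg.IsThreeTranspositionGroup D) (hprim : Cfsg.IsPrimitiveUnderConj D)
    (h24 : Cfsg.IsOfTypeM24 G D) : Hyp D :=
  hyp_of_geo24 (H61.M24.geo24 hD hprim h24)

/-- members of a group of type M(24) are outside the derived group -/
theorem notMem_commutator_of_M24 (hD : Cfsg.IsThreeTranspositionGroup D)
    (hprim : Cfsg.IsPrimitiveUnderConj D) (h24 : Cfsg.IsOfTypeM24 G D) {a : G} (ha : a ∈ D) :
    a ∉ commutator G :=
  (hyp_of_M24 hD hprim h24).notMem_commutator ha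

end Cfsg.Agent.H64.M24Triple
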