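import Cfsg.Agent.H64.M24Triple.Residue

/-!
The number of ordered five element sets of pairwise commuting members in type M(24).
-/

set_option autoImplicit false

namespace Cfsg.Agent.H64.M24Triple

open Cfsg.Agent.H93

variable {G : Type*} [Group G] {D : Set G}

/-- ordered sets of pairwise commuting members -/
def Clq (D : Set G) (n : ℕ) : Set (Fin n → G) :=
  {x | Function.Injective x ∧ (∀ i, x i ∈ D) ∧ ∀ i j, Commute (x i) (x j)}

/-- the possible extensions -/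
def ext (D : Set G) {n : ℕ} (x : Fin n → G) : Set G :=
  {y | y ∈ D ∧ ∀ i, y ≠ x i ∧ Commute (x i) y}

theorem card_clq_succ [Finite G] (n : ℕ) (m : ℕ) (h : ∀ x ∈ Clq D n, (ext D x).ncard = m) :
    (Clq D (n + 1)).ncard = (Clq D n).ncard * m := by
  classical
  have hmem : ∀ (x : Fin (n + 1) → G), x ∈ Clq D (n + 1) ↔
      Fin.init x ∈ Clq D n ∧ x (Fin.last n) ∈ ext D (Fin.init x) := by
    intro x
    constructor
    · rintro ⟨hi, hD, hc⟩
      refine ⟨⟨fun i j e => Fin.castSucc_injective _ (hi e), fun i => hD _, fun i j => hc _ _⟩,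
        hD _, fun i => ⟨fun e => Fin.castSucc_ne_last i (hi e).symm, hc _ _⟩⟩
    · rintro ⟨⟨hi, hD, hc⟩, yD, hy⟩
      refine ⟨fun i j => ?_, fun i => ?_, fun i j => ?_⟩
      · refine Fin.lastCases ?_ (fun i => ?_) i <;> refine Fin.lastCases ?_ (fun j => ?_) j
        · intro _; rfl
        · intro e; exact absurd e (hy j).1
        · intro e; exact absurd e.symm (hy i).1
        · intro e; exact congrArg Fin.castSucc (hi e)
      · exact Fin.lastCases yD hD i
      · refine Fin.lastCases ?_ (fun i => ?_) i <;> refine Fin.lastCases ?_ (fun j => ?_) j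
        · exact Commute.refl _
        · exact (hy j).2.symm
        · exact (hy i).2
        · exact hc i j
  let e : ↥(Clq D (n + 1)) ≃ (Σ x : ↥(Clq D n), ↥(ext D x.1)) :=
    { toFun := fun x => ⟨⟨Fin.init x.1, ((hmem _).mp x.2).1⟩, ⟨x.1 (Fin.last n), ((hmem _).mp x.2).2⟩⟩
      invFun := fun q => ⟨Fin.snoc q.1.1 q.2.1, (hmem _).mpr (by
        rw [Fin.init_snoc, Fin.snoc_last]; exact ⟨q.1.2, q.2.2⟩)⟩
      left_inv := fun x => Subtype.ext (Fin.snoc_init_self x.1)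
      right_inv := fun q => by
        obtain ⟨⟨x, hx⟩, ⟨y, hy⟩⟩ := q
        refine Sigma.subtype_ext ?_ ?_
        · exact Subtype.ext (Fin.init_snoc (α := fun _ => G) (p := x) (x := y))
        · exact Fin.snoc_last (α := fun _ => G) y x }
  haveI : Fintype ↥(Clq D n) := Fintype.ofFinite _
  rw [← Nat.card_coe_set_eq, Nat.card_congr e, Nat.card_sigma,
    Finset.sum_congr rfl fun x _ => (Nat.card_coe_set_eq _).trans (h x.1 x.2), Finset.sum_const,
    Finset.card_univ, smul_eq_mul, ← Nat.card_eq_fintype_card, Nat.card_coe_set_eq]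

namespace Hyp

variable [Finite G] (h : Hyp D)

include h

theorem card_nb {a : G} (ha : a ∈ D) : (nb D a).ncard = 31671 := by
  obtain ⟨b, hb'⟩ := h.core.edge a ha
  rw [← (h.res a ha).card_members (rimg_mem hb')]
  refine Set.ncard_congr (fun y _ => rimg D a y) (fun y hy => rimg_mem hy)
    (fun y z hy hz e => (h.core.rimg_inj ha hy hz).mp e) fun e he => ?_
  obtain ⟨y, hy, rfl⟩ := rimg_surj he
  exact ⟨y, hy, rfl⟩

theorem card_pair {a b : G} (ha : a ∈ D) (hb' : b ∈ nb D a) : (nb D a ∩ nb D b).ncard = 3510 := by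
  rw [← (h.res a ha).card_nb (rimg_mem hb')]
  refine Set.ncard_congr (fun y _ => rimg D a y) (fun y hy => h.core.rimg_nb ha hb' hy)
    (fun y z hy hz e => (h.core.rimg_inj ha hy.1 hz.1).mp e) fun e he => ?_
  obtain ⟨y, hy, rfl⟩ := h.core.rimg_nb_surj ha hb' he
  exact ⟨y, hy, rfl⟩

end Hyp

variable {a b c : G} {K : Type*} [Field K] [Fintype K] {hK : Fintype.card K = 4}

/-- the members commuting with a triple -/
theorem Tri.card_T3 [Finite G] (t : Tri D a b c K hK) : (T3 D a b c).ncard = 693 := by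
  have e : nb (insert a (T3 D a b c)) a = T3 D a b c := by
    ext y
    constructor
    · rintro ⟨rfl | hy, hne, -⟩
      exacts [absurd rfl hne, hy]
    · exact fun hy => ⟨Or.inr hy, hy.1.1.2.1, hy.1.1.2.2⟩
  have := card_nb_member hK (a := a) (D := insert a (T3 D a b c)) (e.symm ▸ t.sp)
  rwa [e] at this

/-- the neighbours of a point among the members commuting with a triple -/
theorem Tri.card_perp [Finite G] (t : Tri D a b c K hK) {y : G} (hy : y ∈ T3 D a b c) :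
    {z | z ∈ T3 D a b c ∧ z ≠ y ∧ Commute y z}.ncard = 180 := by
  obtain ⟨u, hu, rfl⟩ := t.sp.surj y hy
  have hfar : {z | z ∈ T3 D a b c ∧ ¬ Commute (t.sp.pt u) z}.ncard = 512 := by
    rw [← card_value_one hK hu]
    have hp : ∀ {x}, x ∈ {x : Vec K | hb x x = 0 ∧ hb x u = 1} → IsPt x := fun {x} hx =>
      pt_of_hb_eq_one hx.1 hx.2
    refine (Set.ncard_congr (fun x _ => t.sp.pt x) (fun x hx => ?_) (fun x z hx hz e => ?_)
      (fun z hz => ?_)).symm
    · exact ⟨t.sp.mem (hp hx), fun q => one_ne_zero (hx.2.symm.trans ((t.sp.comm (hp hx) hu).mp q.symm))⟩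
    · obtain ⟨r, hr⟩ := (t.sp.same (hp hx) (hp hz)).mp e
      have := hz.2
      rw [hr, hb_smul_left, hx.2, mul_one] at this
      rw [hr, this, one_smul]
    · obtain ⟨x, hx, rfl⟩ := t.sp.surj z hz.1
      have h0 : hb x u ≠ 0 := fun q => hz.2 ((t.sp.comm hu hx).mpr ((hb_eq_zero_comm hK).mp q))
      obtain ⟨hx', ex⟩ := t.sp.smul_pt (inv_ne_zero h0) hx
      exact ⟨_, ⟨hx'.2, by rw [hb_smul_left, inv_mul_cancel₀ h0]⟩, ex⟩
  have htot : (T3 D a b c).ncard = 693 := t.card_T3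
  have hsplit : T3 D a b c = ({t.sp.pt u} ∪ {z | z ∈ T3 D a b c ∧ ¬ Commute (t.sp.pt u) z}) ∪
      {z | z ∈ T3 D a b c ∧ z ≠ t.sp.pt u ∧ Commute (t.sp.pt u) z} := by
    ext z
    constructor
    · intro hz
      by_cases e : z = t.sp.pt u
      · exact Or.inl (Or.inl e)
      · by_cases q : Commute (t.sp.pt u) z
        · exact Or.inr ⟨hz, e, q⟩
        · exact Or.inl (Or.inr ⟨hz, q⟩)
    · rintro ((rfl | hz) | hz)
      exacts [t.sp.mem hu, hz.1, hz.1]
  rw [hsplit, Set.ncard_union_eq, Set.ncard_union_eq, Set.ncard_singleton, hfar] at htot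
  · omega
  · rw [Set.disjoint_singleton_left]; exact fun q => q.2 (Commute.refl _)
  · rw [Set.disjoint_left]
    rintro z (rfl | hz) hz'
    exacts [hz'.2.1 rfl, hz.2 hz'.2.2]

/-- the ordered five element cliques -/
theorem Hyp.card_five [Finite G] (h : Hyp D) :
    (Clq D 5).ncard = 306936 * 31671 * 3510 * 693 * 180 := by
  have h1 : (Clq D 1).ncard = 306936 := by
    rw [← h.card]
    refine Set.ncard_congr (fun x _ => x 0) (fun x hx => hx.2.1 0) (fun x y _ _ e => ?_) fun y hy =>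
      ⟨fun _ => y, ⟨Function.injective_of_subsingleton _, fun _ => hy, fun _ _ => Commute.refl y⟩, rfl⟩
    funext i; rw [Subsingleton.elim i 0]; exact e
  have e2 : ∀ x ∈ Clq D 1, (ext D x).ncard = 31671 := fun x hx => by
    rw [← h.card_nb (hx.2.1 0)]
    congr 1
    ext y
    exact ⟨fun q => ⟨q.1, (q.2 0).1, (q.2 0).2⟩, fun q => ⟨q.1, fun i => by
      rw [Subsingleton.elim i 0]; exact q.2⟩⟩
  have e3 : ∀ x ∈ Clq D 2, (ext D x).ncard = 3510 := fun x hx => by
    rw [← h.card_pair (hx.2.1 0) (b := x 1)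
      ⟨hx.2.1 1, fun e => by simpa using hx.1 e, hx.2.2 0 1⟩]
    congr 1
    ext y
    exact ⟨fun q => ⟨⟨q.1, q.2 0⟩, q.1, q.2 1⟩, fun q => ⟨q.1.1, fun i => by
      fin_cases i; exacts [q.1.2, q.2.2]⟩⟩
  have tri : ∀ {n : ℕ} {x : Fin n → G}, x ∈ Clq D n → ∀ i j k : Fin n, i ≠ j → i ≠ k → j ≠ k →
      IsTriple D (x i) (x j) (x k) := fun {n x} hx i j k hij hik hjk =>
    ⟨hx.2.1 i, ⟨hx.2.1 j, fun e => hij (hx.1 e).symm, hx.2.2 i j⟩,
      ⟨hx.2.1 k, fun e => hik (hx.1 e).symm, hx.2.2 i k⟩,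
      ⟨hx.2.1 k, fun e => hjk (hx.1 e).symm, hx.2.2 j k⟩⟩
  have e4 : ∀ x ∈ Clq D 3, (ext D x).ncard = 693 := fun x hx => by
    obtain ⟨K, iK, iKF, hK, ⟨t⟩⟩ := h.exists_tri (tri hx 0 1 2 (by decide) (by decide) (by decide))
    have he : ext D x = T3 D (x 0) (x 1) (x 2) := by
      ext y
      exact ⟨fun q => ⟨⟨⟨q.1, q.2 0⟩, q.1, q.2 1⟩, q.1, q.2 2⟩, fun q => ⟨q.1.1.1, fun i => by
        fin_cases i; exacts [q.1.1.2, q.1.2.2, q.2.2]⟩⟩
    rw [he]
    exact t.card_T3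
  have e5 : ∀ x ∈ Clq D 4, (ext D x).ncard = 180 := fun x hx => by
    obtain ⟨K, iK, iKF, hK, ⟨t⟩⟩ := h.exists_tri (tri hx 0 1 2 (by decide) (by decide) (by decide))
    have h3 : x 3 ∈ T3 D (x 0) (x 1) (x 2) := by
      refine ⟨⟨?_, ?_⟩, ?_⟩ <;> exact ⟨hx.2.1 3, fun e => by simpa using hx.1 e, hx.2.2 _ 3⟩
    rw [← t.card_perp h3]
    congr 1
    ext y
    exact ⟨fun q => ⟨⟨⟨⟨q.1, q.2 0⟩, q.1, q.2 1⟩, q.1, q.2 2⟩, q.2 3⟩, fun q => ⟨q.1.1.1.1, fun i => by
      fin_cases i; exacts [q.1.1.1.2, q.1.1.2.2, q.1.2.2, q.2]⟩⟩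
  rw [card_clq_succ 4 180 e5, card_clq_succ 3 693 e4, card_clq_succ 2 3510 e3, card_clq_succ 1 31671 e2,
    h1]

end Cfsg.Agent.H64.M24Triple
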