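import Cfsg.Agent.H64.M24Triple.Plane
import Cfsg.Agent.H64.M24Triple.Count

/-!
Sets of eight pairwise commuting members with product one: each five commuting members lie in exactly
one, and there is an odd number of them.
-/

set_option autoImplicit false

namespace Cfsg.Agent.H64.M24Triple

open Cfsg.Agent.H93

variable {G : Type*} [Group G] {D : Set G}

/-- eight pairwise commuting members with product one -/
def IsOctad (D : Set G) (O : Set G) : Prop :=
  ∃ l : List G, l.Nodup ∧ l.length = 8 ∧ (∀ x ∈ l, x ∈ D) ∧ (∀ x ∈ l, ∀ y ∈ l, Commute x y) ∧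
    l.prod = 1 ∧ O = {x | x ∈ l}

/-- the products of commuting lists with the same members agree -/
theorem prod_eq_of_mem {l l' : List G} (h : l.Perm l') (hc : ∀ x ∈ l, ∀ y ∈ l, Commute x y) :
    l.prod = l'.prod :=
  h.prod_eq' (List.Pairwise.imp_of_mem (R := fun _ _ => True)
    (fun {a b} ha hb _ => hc a ha b hb) (List.pairwise_of_forall fun _ _ => trivial))

theorem IsOctad.eq_of_five {O O' : Set G} (hcore : Core D) (hind : Indep D 7) (hO : IsOctad D O)
    (hO' : IsOctad D O') {x : Fin 5 → G} (hx : Function.Injective x) (h : ∀ i, x i ∈ O)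
    (h' : ∀ i, x i ∈ O') : O = O' := by
  classical
  obtain ⟨l, hn, hl, hD, hc, hp, rfl⟩ := hO
  obtain ⟨m, mn, ml, mD, mc, mp, rfl⟩ := hO'
  set s := l.filter fun y => decide (y ∈ m) with hs
  set r := l.filter fun y => !decide (y ∈ m) with hr
  set s' := m.filter fun y => decide (y ∈ l) with hs'
  set r' := m.filter fun y => !decide (y ∈ l) with hr'
  have pl : l.Perm (s ++ r) := (List.filter_append_perm _ l).symm
  have pm : m.Perm (s' ++ r') := (List.filter_append_perm _ m).symm
  have ps : s.Perm s' := (List.perm_ext_iff_of_nodup (hn.filter _) (mn.filter _)).mpr fun y => by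
    simp [hs, hs', and_comm]
  have five : 5 ≤ s.length := by
    have hsub : (Finset.univ.image x) ⊆ s.toFinset := fun y hy => by
      obtain ⟨i, -, rfl⟩ := Finset.mem_image.mp hy
      simp only [List.mem_toFinset, hs, List.mem_filter, decide_eq_true_eq]
      exact ⟨h i, h' i⟩
    have := Finset.card_le_card hsub
    rw [Finset.card_image_of_injective _ hx, Finset.card_univ, Fintype.card_fin,
      List.toFinset_card_of_nodup (hn.filter _)] at this
    exact this
  have e1 := (prod_eq_of_mem pl hc).symm.trans hp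
  have e2 := (prod_eq_of_mem pm mc).symm.trans mp
  rw [List.prod_append] at e1 e2
  have eprod : r.prod = r'.prod := by
    rw [eq_inv_of_mul_eq_one_right e1, eq_inv_of_mul_eq_one_right e2,
      prod_eq_of_mem ps fun a ha b hb => hc a (List.mem_of_mem_filter ha) b (List.mem_of_mem_filter hb)]
  have l1 := pl.length_eq
  have l2 := pm.length_eq
  rw [List.length_append] at l1 l2
  have ls := ps.length_eq
  have key := unique_factor' hcore.tt hind r.length (by omega) (by omega) r.prod r r'
    ⟨hn.filter _, rfl, fun a ha => hD a (List.mem_of_mem_filter ha),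
      fun a ha b hb => hc a (List.mem_of_mem_filter ha) b (List.mem_of_mem_filter hb), rfl⟩
    ⟨mn.filter _, by omega, fun a ha => mD a (List.mem_of_mem_filter ha),
      fun a ha b hb => mc a (List.mem_of_mem_filter ha) b (List.mem_of_mem_filter hb), eprod.symm⟩
  have rnil : r = [] := List.eq_nil_iff_forall_not_mem.mpr fun y hy => by
    have q := (List.mem_filter.mp ((key y).mp hy)).2
    have q' := (List.mem_filter.mp hy).1
    simp [q'] at q
  have rnil' : r' = [] := List.length_eq_zero_iff.mp (by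
    rw [rnil] at l1 key
    simp only [List.length_nil] at l1
    exact List.length_eq_zero_iff.mpr (List.eq_nil_iff_forall_not_mem.mpr fun y hy => by
      simpa using (key y).mpr hy))
  ext y
  refine ⟨fun hy => ?_, fun hy => ?_⟩
  · have : y ∈ s ++ r := pl.mem_iff.mp hy
    rw [rnil, List.append_nil] at this
    exact List.mem_of_mem_filter (ps.mem_iff.mp this)
  · have : y ∈ s' ++ r' := pm.mem_iff.mp hy
    rw [rnil', List.append_nil] at this
    exact List.mem_of_mem_filter (ps.mem_iff.mpr this)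

theorem IsOctad.conj (hcore : Core D) {O : Set G} (hO : IsOctad D O) (g : G) :
    IsOctad D ((fun x => g * x * g⁻¹) '' O) := by
  obtain ⟨l, hn, hl, hD, hc, hp, rfl⟩ := hO
  refine ⟨l.map (MulAut.conj g), hn.map (MulAut.conj g).injective, by simpa using hl, ?_, ?_, ?_, ?_⟩
  · rintro _ hx
    obtain ⟨x, hx', rfl⟩ := List.mem_map.mp hx
    exact hcore.tt.conj_mem g x (hD x hx')
  · rintro _ hx _ hy
    obtain ⟨x, hx', rfl⟩ := List.mem_map.mp hx
    obtain ⟨y, hy', rfl⟩ := List.mem_map.mp hy
    exact (hc x hx' y hy').map (MulAut.conj g).toMonoidHom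
  · have := map_list_prod (MulAut.conj g) l
    rw [hp, map_one] at this
    exact this.symm
  · ext y
    simp [MulAut.conj_apply]

theorem IsOctad.subset {O : Set G} (hO : IsOctad D O) : O ⊆ D := by
  obtain ⟨l, -, -, hD, -, -, rfl⟩ := hO
  exact hD

theorem IsOctad.commute {O : Set G} (hO : IsOctad D O) {x y : G} (hx : x ∈ O) (hy : y ∈ O) :
    Commute x y := by
  obtain ⟨l, -, -, -, hc, -, rfl⟩ := hO
  exact hc x hx y hy

theorem IsOctad.ncard {O : Set G} (hO : IsOctad D O) : O.ncard = 8 := by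
  classical
  obtain ⟨l, hn, hl, -, -, -, rfl⟩ := hO
  rw [show {x | x ∈ l} = (l.toFinset : Set G) by ext; simp, Set.ncard_coe_finset,
    List.toFinset_card_of_nodup hn, hl]

/-! ### the octad through five members -/

variable {a b c : G} {K : Type*} [Field K] [Fintype K] {hK : Fintype.card K = 4}

/-- the eight indices of the triple and the first line -/
def octIdx : List (Fin 3 ⊕ Fin 21) :=
  [Sum.inl 0, Sum.inl 1, Sum.inl 2, Sum.inr 0, Sum.inr 1, Sum.inr 3, Sum.inr 4, Sum.inr 9]

theorem octIdx_nodup : octIdx.Nodup := by decide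

theorem mem_octIdx_inl : ∀ i : Fin 3, Sum.inl i ∈ octIdx := by
  intro i; fin_cases i <;> simp [octIdx]

theorem code_two_line : ∀ k : Fin 21, code k 2 = bz →
    k = 0 ∨ k = 1 ∨ k = 3 ∨ k = 4 ∨ k = 9 := by decide +kernel

theorem mem_octIdx_inr {k : Fin 21} (hk : code k 2 = bz) : Sum.inr k ∈ octIdx := by
  rcases code_two_line k hk with rfl | rfl | rfl | rfl | rfl <;> simp [octIdx]

theorem octIdx_sum : (octIdx.map fun i => (Pi.single i 1 : Fin 3 ⊕ Fin 21 → ZMod 2)).sum =
    Sum.elim (fun _ => (1 : ZMod 2)) (rel 0) := by decide +kernel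

/-- the first line and the triple -/
noncomputable def octSet (t : Tri D a b c K hK) (P : Fin 3 → Vec K) : Set G :=
  {y | y ∈ octIdx.map (fA (P := P) t)}

variable {P Q : Fin 3 → Vec K}

theorem octSet_isOctad (p : Plane P Q) (t : Tri D a b c K hK) (hcore : Core D)
    (ht : IsTriple D a b c) (hind : Indep D 7) : IsOctad D (octSet t P) := by
  classical
  refine ⟨_, octIdx_nodup.map (fA_inj p t ht), by simp [octIdx], ?_, ?_, ?_, rfl⟩
  · rintro _ hy
    obtain ⟨i, -, rfl⟩ := List.mem_map.mp hy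
    exact fA_mem p t ht i
  · rintro _ hy _ hz
    obtain ⟨i, -, rfl⟩ := List.mem_map.mp hy
    obtain ⟨j, -, rfl⟩ := List.mem_map.mp hz
    exact fA_comm p t ht i j
  · rw [← wd_list (hc := fA_comm p t ht) (fA_sq p t hcore ht), octIdx_sum]
    obtain ⟨δ, hδ⟩ := exists_delta p t hcore ht (rel_zero 0)
    have hall : δ = fun _ => (1 : ZMod 2) := by
      funext i
      by_contra q
      have hi : δ i = 0 := (zmod2_cases (δ i)).resolve_right q
      have h2 : (Finset.univ.filter fun i => δ i ≠ 0).card ≤ 2 := by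
        refine le_trans (Finset.card_le_card (t := Finset.univ.erase i) fun j hj => ?_) (by simp)
        refine Finset.mem_erase.mpr ⟨fun e => (Finset.mem_filter.mp hj).2 (e ▸ hi), Finset.mem_univ _⟩
      have := W_short p t hcore ht hind hδ (by rw [supp_card, rel_five 0 (by decide)]; omega)
      have h5 := rel_five 0 (by decide)
      rw [show rel 0 = 0 from funext fun k => congrFun this (Sum.inr k)] at h5
      simp at h5
    rw [hall] at hδ
    exact hδ

theorem exists_dual (hK : Fintype.card K = 4) {u v r f : Vec K} (huv : LinearIndependent K ![u, v])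
    (hu : hb u u = 0) (hv : hb v v = 0) (hr : hb r r = 0) (uv : hb u v = 0) (ru : hb r u = 0)
    (rv : hb r v = 0) (fu : hb f u = 0) (fv : hb f v = 0) (fr : hb f r = 1) :
    ∃ Q, Plane ![u, v, r] Q ∧ Q 2 = f := by
  have ns : r ∉ Submodule.span K (Set.range ![u, v]) := by
    intro hin
    have : hb f r = 0 := by
      obtain ⟨g, hg⟩ := (Submodule.mem_span_range_iff_exists_fun K).mp hin
      simp only [Fin.sum_univ_two, Matrix.cons_val_zero, Matrix.cons_val_one] at hg
      rw [← hg, hb_add_right hK, hb_smul_right, hb_smul_right, fu, fv]; simp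
    rw [fr] at this; exact one_ne_zero this
  have hli : LinearIndependent K ![u, v, r] := by
    rw [show ![u, v, r] = Fin.snoc ![u, v] r by funext i; fin_cases i <;> rfl]
    exact linearIndependent_finSnoc.mpr ⟨huv, ns⟩
  choose Q hQ using fun i : Fin 3 => solve hK hli (fun j => if i = j then 1 else 0)
  refine ⟨![Q 0, Q 1, f], ⟨hli, fun i j => ?_, fun i j => ?_⟩, rfl⟩
  · have vu := (hb_eq_zero_comm hK).mp uv
    have ur := (hb_eq_zero_comm hK).mp ru
    have vr := (hb_eq_zero_comm hK).mp rv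
    fin_cases i <;> fin_cases j
    all_goals first
      | exact hu
      | exact hv
      | exact hr
      | assumption
  · fin_cases i
    · exact hQ 0 j
    · exact hQ 1 j
    · fin_cases j
      exacts [fu, fv, fr]

theorem bval_b1 (w : K) : bval w b1 = 1 := by simp [bval, b1]

theorem pv_zero (hK : Fintype.card K = 4) (P : Fin 3 → Vec K) : pv hK P 0 = P 0 := by
  simp [pv, Fin.sum_univ_three, code, codeList, bval_bz, bval_b1]

theorem pv_one (hK : Fintype.card K = 4) (P : Fin 3 → Vec K) : pv hK P 1 = P 1 := by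
  simp [pv, Fin.sum_univ_three, code, codeList, bval_bz, bval_b1]

theorem pv_two (hK : Fintype.card K = 4) (P : Fin 3 → Vec K) : pv hK P 2 = P 2 := by
  simp [pv, Fin.sum_univ_three, code, codeList, bval_bz, bval_b1]

theorem pv_line (hK : Fintype.card K = 4) {P P' : Fin 3 → Vec K} (h0 : P 0 = P' 0) (h1 : P 1 = P' 1)
    {k : Fin 21} (hk : code k 2 = bz) : pv hK P k = pv hK P' k := by
  simp [pv, Fin.sum_univ_three, h0, h1, hk, bval_bz]

/-- line coordinates: two orthogonal points and two further pairs -/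
theorem exists_line_frame (hK : Fintype.card K = 4) {u v : Vec K} (hu : IsPt u) (hv : IsPt v)
    (huv : hb u v = 0) (hs : ¬ SamePt u v) : ∃ w e f, Frame u v w e f := by
  obtain ⟨w, hw, w0, w1⟩ := iso_two hK hu.1 hs 0 1
  obtain ⟨e, f, fr⟩ := exists_frame hK hu hv.2 hw (hb_one_comm hK w1) huv ((hb_eq_zero_comm hK).mp w0)
  exact ⟨w, e, f, fr⟩

/-- five commuting members lie in an octad -/
theorem Hyp.exists_octad [Finite G] (h : Hyp D) {x : Fin 5 → G} (hx : x ∈ Clq D 5) :
    ∃ O, IsOctad D O ∧ ∀ i, x i ∈ O := by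
  obtain ⟨hi, hD, hc⟩ := hx
  have nbm : ∀ {i j}, i ≠ j → x j ∈ nb D (x i) := fun hij =>
    ⟨hD _, fun e => hij (hi e).symm, hc _ _⟩
  have ht : IsTriple D (x 0) (x 1) (x 2) :=
    ⟨hD 0, nbm (by decide), nbm (by decide), nbm (by decide)⟩
  obtain ⟨K, iK, iKF, hK, ⟨t⟩⟩ := h.exists_tri ht
  have m3 : x 3 ∈ T3 D (x 0) (x 1) (x 2) :=
    ⟨⟨nbm (by decide), nbm (by decide)⟩, nbm (by decide)⟩
  have m4 : x 4 ∈ T3 D (x 0) (x 1) (x 2) :=
    ⟨⟨nbm (by decide), nbm (by decide)⟩, nbm (by decide)⟩
  obtain ⟨u, hu, eu⟩ := t.sp.surj _ m3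
  obtain ⟨v, hv, ev⟩ := t.sp.surj _ m4
  have huv : hb u v = 0 := (t.sp.comm hu hv).mp (by rw [eu, ev]; exact hc 3 4)
  have hs : ¬ SamePt u v := fun q => by
    have := (t.sp.same hu hv).mpr q
    rw [eu, ev] at this
    exact absurd (hi this) (by decide)
  obtain ⟨w, e, f, fr⟩ := exists_line_frame hK hu hv huv hs
  have z := fun {p q : Vec K} (e : hb p q = 0) => (hb_eq_zero_comm hK).mp e
  obtain ⟨Q, p, -⟩ := exists_dual hK (indep_pair hu.1 hs) hu.2 hv.2 fr.e22 huv (z fr.pe2) (z fr.ee)
    (z fr.pf2) (z fr.ef) (fr.fe2 hK)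
  refine ⟨_, octSet_isOctad p t h.core ht h.ind, fun i => List.mem_map.mpr ?_⟩
  fin_cases i
  · exact ⟨Sum.inl 0, mem_octIdx_inl 0, rfl⟩
  · exact ⟨Sum.inl 1, mem_octIdx_inl 1, rfl⟩
  · exact ⟨Sum.inl 2, mem_octIdx_inl 2, rfl⟩
  · refine ⟨Sum.inr 0, mem_octIdx_inr (by decide), ?_⟩
    show t.sp.pt (pv hK _ 0) = x 3
    rw [pv_zero]; exact eu
  · refine ⟨Sum.inr 1, mem_octIdx_inr (by decide), ?_⟩
    show t.sp.pt (pv hK _ 1) = x 4
    rw [pv_one]; exact ev

/-- the number of octads is odd -/
theorem Hyp.odd_octads [Finite G] (h : Hyp D) : Odd {O : Set G | IsOctad D O}.ncard := by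
  classical
  choose oc hoc hmem using fun x : ↥(Clq D 5) => h.exists_octad x.2
  let e : (Σ O : ↥{O : Set G | IsOctad D O}, Fin 5 ↪ ↥O.1) → ↥(Clq D 5) := fun q =>
    ⟨fun i => (q.2 i : G), fun i j e => q.2.injective (Subtype.ext e),
      fun i => q.1.2.subset (q.2 i).2, fun i j => q.1.2.commute (q.2 i).2 (q.2 j).2⟩
  have he : Function.Bijective e := by
    refine ⟨?_, fun x => ⟨⟨⟨oc x, hoc x⟩, ⟨fun i => ⟨x.1 i, hmem x i⟩, fun i j q =>
      x.2.1 (congrArg Subtype.val q)⟩⟩, rfl⟩⟩
    rintro ⟨⟨O, hO⟩, f⟩ ⟨⟨O', hO'⟩, f'⟩ q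
    have q' : ∀ i, (f i : G) = f' i := fun i => congrFun (congrArg Subtype.val q) i
    have : O = O' := hO.eq_of_five h.core h.ind hO'
      (x := fun i => (f i : G)) (fun i j e => f.injective (Subtype.ext e)) (fun i => (f i).2)
      (fun i => by rw [q' i]; exact (f' i).2)
    subst this
    have ef : f = f' := DFunLike.ext _ _ fun i => Subtype.ext (q' i)
    rw [ef]
  haveI : Fintype ↥{O : Set G | IsOctad D O} := Fintype.ofFinite _
  have hc := Nat.card_eq_of_bijective e he
  rw [Nat.card_sigma, Finset.sum_congr rfl (fun (O : ↥{O : Set G | IsOctad D O}) _ => show Nat.card (Fin 5 ↪ ↥O.1) = 6720 by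
    haveI : Fintype ↥O.1 := Fintype.ofFinite _
    rw [Nat.card_eq_fintype_card, Fintype.card_embedding_eq, ← Nat.card_eq_fintype_card (α := ↥O.1),
      Nat.card_coe_set_eq, O.2.ncard, Fintype.card_fin]
    rfl), Finset.sum_const, smul_eq_mul, Finset.card_univ, ← Nat.card_eq_fintype_card,
    Nat.card_coe_set_eq, Nat.card_coe_set_eq, h.card_five] at hc
  rw [Nat.odd_iff]
  omega

end Cfsg.Agent.H64.M24Triple
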