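import Cfsg.Agent.H93.Count23G

/-!
Groups of type M(24): the centraliser of three pairwise commuting members, read in the iterated
residue as the projective unitary group in dimension six.
-/

set_option autoImplicit false

namespace Cfsg.Agent.H64.M24Triple

open Cfsg.Agent.H93

variable {G : Type*} [Group G] {D : Set G}

/-- what is used about groups of type M(24) -/
structure Hyp (D : Set G) : Prop where
  core : Core D
  ind : Indep D 7
  cent : ∀ a ∈ D, Subgroup.centralizer ({a} : Set G) = nbSub D a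
  self : ∀ a ∈ D, a ∈ nbSub D a
  two : ∀ a ∈ D, ∀ k : ↥(nbSub D a), k ∈ Subgroup.center ↥(nbSub D a) → (k : G) = 1 ∨ (k : G) = a
  res : ∀ a ∈ D, Geo23 (resSet D a)
  card : D.ncard = 306936

/-! ### the map to a residue -/

section ResHom

variable (D) (a : G) (hc : Subgroup.centralizer ({a} : Set G) = nbSub D a)

/-- the centraliser of a member onto the residue -/
noncomputable def resHom : ↥(Subgroup.centralizer ({a} : Set G)) →* Residue D a :=
  (QuotientGroup.mk' (Subgroup.center ↥(nbSub D a))).comp (MulEquiv.subgroupCongr hc).toMonoidHom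

theorem resHom_surj : Function.Surjective (resHom D a hc) :=
  (QuotientGroup.mk'_surjective _).comp (MulEquiv.subgroupCongr hc).surjective

variable {D a}

theorem resHom_member {y : G} (hy : y ∈ nb D a) :
    resHom D a hc ⟨y, mem_cent hy.2.2⟩ = rimg D a y := by
  rw [rimg_eq hy]; rfl

theorem resHom_ker (htwo : ∀ k : ↥(nbSub D a), k ∈ Subgroup.center ↥(nbSub D a) →
      (k : G) = 1 ∨ (k : G) = a) {x : ↥(Subgroup.centralizer ({a} : Set G))}
    (hx : resHom D a hc x = 1) : (x : G) = 1 ∨ (x : G) = a :=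
  htwo (MulEquiv.subgroupCongr hc x) ((QuotientGroup.eq_one_iff _).mp hx)

theorem resHom_fibre (htwo : ∀ k : ↥(nbSub D a), k ∈ Subgroup.center ↥(nbSub D a) →
      (k : G) = 1 ∨ (k : G) = a) {x y : ↥(Subgroup.centralizer ({a} : Set G))}
    (hxy : resHom D a hc x = resHom D a hc y) : (x : G) = y ∨ (x : G) = a * y := by
  rcases resHom_ker hc htwo (x := x * y⁻¹) (by rw [map_mul, map_inv, hxy, mul_inv_cancel]) with e | e
  · exact Or.inl (mul_inv_eq_one.mp (by simpa using e))
  · exact Or.inr (mul_inv_eq_iff_eq_mul.mp (by simpa using e))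

theorem resHom_conj (hcore : Core D) (ha : a ∈ D) (k : ↥(Subgroup.centralizer ({a} : Set G))) {y : G}
    (hy : y ∈ nb D a) :
    (k : G) * y * (k : G)⁻¹ ∈ nb D a ∧
      rimg D a ((k : G) * y * (k : G)⁻¹) = resHom D a hc k * rimg D a y * (resHom D a hc k)⁻¹ :=
  Geo23.rimg_conj hcore.tt ha (hc ▸ k.2) hy

theorem resHom_commute (hcore : Core D) (ha : a ∈ D) (k : ↥(Subgroup.centralizer ({a} : Set G)))
    {y : G} (hy : y ∈ nb D a) :
    Commute (resHom D a hc k) (rimg D a y) ↔ Commute (k : G) y := by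
  obtain ⟨hm, e⟩ := resHom_conj hc hcore ha k hy
  constructor
  · intro q
    rw [q.eq, mul_inv_cancel_right] at e
    exact mul_inv_eq_iff_eq_mul.mp ((hcore.rimg_inj ha hm hy).mp e)
  · intro q
    have q' : (k : G) * y * (k : G)⁻¹ = y := mul_inv_eq_iff_eq_mul.mpr q.eq
    rw [q'] at e
    exact mul_inv_eq_iff_eq_mul.mp e.symm

end ResHom

/-! ### triples -/

/-- the members commuting with three given ones, other than them -/
def T3 (D : Set G) (a b c : G) : Set G := nb D a ∩ nb D b ∩ nb D c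

/-- the centraliser of three members -/
abbrev C3 (a b c : G) : Subgroup G := Subgroup.centralizer ({a, b, c} : Set G)

theorem mem_C3_iff {a b c g : G} : g ∈ C3 a b c ↔ Commute g a ∧ Commute g b ∧ Commute g c := by
  rw [Subgroup.mem_centralizer_iff]
  constructor
  · intro h
    exact ⟨(h a (by simp)).symm, (h b (by simp)).symm, (h c (by simp)).symm⟩
  · rintro ⟨h1, h2, h3⟩ x hx
    simp only [Set.mem_insert_iff, Set.mem_singleton_iff] at hx
    rcases hx with rfl | rfl | rfl
    exacts [h1.symm.eq, h2.symm.eq, h3.symm.eq]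

theorem T3_mem_C3 {a b c y : G} (hy : y ∈ T3 D a b c) : y ∈ C3 a b c :=
  mem_C3_iff.mpr ⟨hy.1.1.2.2.symm, hy.1.2.2.2.symm, hy.2.2.2.symm⟩

/-- three pairwise commuting members -/
structure IsTriple (D : Set G) (a b c : G) : Prop where
  ha : a ∈ D
  hb : b ∈ nb D a
  hca : c ∈ nb D a
  hcb : c ∈ nb D b

namespace IsTriple

variable {a b c : G} (ht : IsTriple D a b c)

include ht

theorem memA : a ∈ C3 a b c :=
  mem_C3_iff.mpr ⟨Commute.refl a, ht.hb.2.2, ht.hca.2.2⟩

theorem memB : b ∈ C3 a b c :=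
  mem_C3_iff.mpr ⟨ht.hb.2.2.symm, Commute.refl b, ht.hcb.2.2⟩

theorem memC : c ∈ C3 a b c :=
  mem_C3_iff.mpr ⟨ht.hca.2.2.symm, ht.hcb.2.2.symm, Commute.refl c⟩

theorem closure_le : Subgroup.closure ({a, b, c} : Set G) ≤ C3 a b c := by
  rw [Subgroup.closure_le]
  rintro x hx
  simp only [Set.mem_insert_iff, Set.mem_singleton_iff] at hx
  rcases hx with rfl | rfl | rfl
  exacts [ht.memA, ht.memB, ht.memC]

end IsTriple

/-- the centraliser of a triple, read as `PSU 6 K 2` -/
structure Tri (D : Set G) (a b c : G) (K : Type*) [Field K] [Fintype K] (hK : Fintype.card K = 4)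
    where
  /-- the space on the common neighbours -/
  sp : U6Space K (T3 D a b c)
  /-- the representation -/
  ψ : ↥(C3 a b c) →* Cfsg.PSU 6 K 2
  eq : ∀ {v : Vec K} (hv : IsPt v), ψ ⟨sp.pt v, T3_mem_C3 (sp.mem hv)⟩ = ptv hK v
  surj : Function.Surjective ψ
  ker : ∀ x, ψ x = 1 ↔ (x : G) ∈ Subgroup.closure ({a, b, c} : Set G)

namespace Hyp

variable [Finite G] (h : Hyp D) {a b c : G}

include h

theorem nonempty : D.Nonempty := by
  rw [← Set.ncard_pos, h.card]; norm_num

/-- a triple has a representation -/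
theorem exists_tri (ht : IsTriple D a b c) :
    ∃ (K : Type) (_ : Field K) (_ : Fintype K) (hK : Fintype.card K = 4),
      Nonempty (Tri D a b c K hK) := by
  classical
  have htt := h.core.tt
  have haD := ht.ha
  have hbD := ht.hb.1
  have hcD := ht.hca.1
  -- the first residue
  have h1 := h.res a haD
  set x2 := rimg D a b
  set x3 := rimg D a c
  have hx2 : x2 ∈ resSet D a := rimg_mem ht.hb
  have hx3 : x3 ∈ nb (resSet D a) x2 := h.core.rimg_nb haD ht.hb ⟨ht.hca, ht.hcb⟩
  -- the second residue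
  obtain ⟨K, iK, iKF, h2⟩ := h1.res x2 hx2
  set y3 := rimg (resSet D a) x2 x3
  have hy3 : y3 ∈ resSet (resSet D a) x2 := rimg_mem hx3
  obtain ⟨π, he, ⟨xs⟩⟩ := h2.exists_space hy3
  refine ⟨K, iK, iKF, h2.hK, ?_⟩
  have hK := h2.hK
  let ρ1 := resHom D a (h.cent a haD)
  let ρ2 := resHom (resSet D a) x2 (h1.cent x2 hx2)
  have inC : C3 a b c ≤ Subgroup.centralizer ({a} : Set G) :=
    Subgroup.centralizer_le (by simp)
  let f1 : ↥(C3 a b c) →* ↥(Subgroup.centralizer ({x2} : Set (Residue D a))) :=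
    (ρ1.comp (Subgroup.inclusion inC)).codRestrict _ fun g =>
      mem_cent ((resHom_commute (h.cent a haD) h.core haD _ ht.hb).mpr (mem_C3_iff.mp g.2).2.1).symm
  let f2 : ↥(C3 a b c) →* Residue (resSet D a) x2 := ρ2.comp f1
  let f3 : ↥(C3 a b c) →* ↥(Subgroup.centralizer ({y3} : Set (Residue (resSet D a) x2))) :=
    f2.codRestrict _ fun g => mem_cent ((resHom_commute (h1.cent x2 hx2) h1.core hx2 (f1 g) hx3).mpr
      ((resHom_commute (h.cent a haD) h.core haD (Subgroup.inclusion inC g) ht.hca).mpr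
        (mem_C3_iff.mp g.2).2.2)).symm
  let ψ : ↥(C3 a b c) →* Cfsg.PSU 6 K 2 := π.comp f3
  -- images of members
  have img1 : ∀ {y} (hy : y ∈ nb D a) (hyC : y ∈ C3 a b c),
      ((f1 ⟨y, hyC⟩ : ↥(Subgroup.centralizer ({x2} : Set (Residue D a)))) : Residue D a) =
        rimg D a y := fun hy _ => resHom_member (h.cent a haD) hy
  -- surjectivity
  have hsurj : Function.Surjective ψ := by
    intro p
    obtain ⟨r, rfl⟩ := he.surj p
    obtain ⟨r1, hr1⟩ := resHom_surj (resSet D a) x2 (h1.cent x2 hx2) (r : Residue (resSet D a) x2)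
    obtain ⟨g, hg⟩ := resHom_surj D a (h.cent a haD) (r1 : Residue D a)
    have hb' : Commute (g : G) b := (resHom_commute (h.cent a haD) h.core haD g ht.hb).mp (by
      rw [hg]; exact Subgroup.mem_centralizer_singleton_iff.mp r1.2)
    have hc' : Commute (g : G) c := (resHom_commute (h.cent a haD) h.core haD g ht.hca).mp (by
      rw [hg]
      exact (resHom_commute (h1.cent x2 hx2) h1.core hx2 r1 hx3).mp (by
        rw [hr1]; exact Subgroup.mem_centralizer_singleton_iff.mp r.2))
    have ga : Commute (g : G) a := Subgroup.mem_centralizer_singleton_iff.mp g.2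
    refine ⟨⟨g, mem_C3_iff.mpr ⟨ga, hb', hc'⟩⟩, congrArg π (Subtype.ext ?_)⟩
    show ρ2 (f1 _) = (r : Residue (resSet D a) x2)
    rw [← hr1]
    exact congrArg ρ2 (Subtype.ext hg)
  -- the kernel
  have hV : ∀ {x}, x ∈ ({a, b, c} : Set G) → x ∈ Subgroup.closure ({a, b, c} : Set G) :=
    fun hx => Subgroup.subset_closure hx
  have hker : ∀ x, ψ x = 1 ↔ (x : G) ∈ Subgroup.closure ({a, b, c} : Set G) := by
    intro x
    constructor
    · intro hx
      have step : ∀ {x : ↥(C3 a b c)}, f2 x = 1 → (x : G) ∈ Subgroup.closure ({a, b, c} : Set G) := by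
        intro x hx
        rcases resHom_ker (h1.cent x2 hx2) (h1.two x2 hx2) hx with e | e
        · rcases resHom_ker (h.cent a haD) (h.two a haD) (x := Subgroup.inclusion inC x) e with q | q
          · rw [show (x : G) = 1 from q]; exact one_mem _
          · rw [show (x : G) = a from q]; exact hV (by simp)
        · rcases resHom_fibre (h.cent a haD) (h.two a haD) (x := Subgroup.inclusion inC x)
            (y := ⟨b, mem_cent ht.hb.2.2⟩) (e.trans (resHom_member _ ht.hb).symm) with q | q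
          · rw [show (x : G) = b from q]; exact hV (by simp)
          · rw [show (x : G) = a * b from q]; exact mul_mem (hV (by simp)) (hV (by simp))
      rcases he.ker (f3 x) hx with e | e
      · exact step (congrArg Subtype.val e)
      · have hcc : f2 ⟨c, ht.memC⟩ = y3 := by
          show ρ2 (f1 ⟨c, ht.memC⟩) = y3
          rw [show f1 ⟨c, ht.memC⟩ = ⟨x3, mem_cent hx3.2.2⟩ from Subtype.ext (img1 ht.hca _)]
          exact resHom_member _ hx3
        have := step (x := x * (⟨c, ht.memC⟩ : ↥(C3 a b c))⁻¹) (by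
          rw [map_mul, map_inv, hcc, show f2 x = y3 from congrArg Subtype.val e, mul_inv_cancel])
        have h' := mul_mem this (hV (x := c) (by simp))
        simpa using h'
    · intro hx
      have : ∀ y (hy : y ∈ Subgroup.closure ({a, b, c} : Set G)), ψ ⟨y, ht.closure_le hy⟩ = 1 := by
        intro y hy
        induction hy using Subgroup.closure_induction with
        | mem y hy =>
          have key : ∀ {g : ↥(C3 a b c)}, f2 g = 1 → ψ g = 1 := fun {g} hg => by
            show π (f3 g) = 1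
            rw [show f3 g = 1 from Subtype.ext hg, map_one]
          simp only [Set.mem_insert_iff, Set.mem_singleton_iff] at hy
          rcases hy with rfl | rfl | rfl
          · refine key ?_
            have : f1 ⟨y, ht.memA⟩ = 1 := Subtype.ext (by
              show resHom D y (h.cent y haD) ⟨y, _⟩ = 1
              exact (QuotientGroup.eq_one_iff _).mpr (mem_center_nbSub.mpr fun v hv => hv.2.2.symm))
            show ρ2 (f1 _) = 1
            rw [this, map_one]
          · refine key ?_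
            show ρ2 (f1 ⟨y, _⟩) = 1
            rw [show f1 ⟨y, ht.memB⟩ = ⟨x2, mem_cent (Commute.refl x2)⟩ from Subtype.ext (img1 ht.hb _)]
            exact (QuotientGroup.eq_one_iff _).mpr (mem_center_nbSub.mpr fun v hv => hv.2.2.symm)
          · show π (f3 ⟨y, _⟩) = 1
            refine (congrArg π ?_).trans (he.π_d hK)
            refine Subtype.ext ?_
            show ρ2 (f1 ⟨y, ht.memC⟩) = y3
            rw [show f1 ⟨y, ht.memC⟩ = ⟨x3, mem_cent hx3.2.2⟩ from Subtype.ext (img1 ht.hca _)]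
            exact resHom_member _ hx3
        | one => exact map_one ψ
        | mul y z hy hz ey ez =>
          rw [show (⟨y * z, ht.closure_le (mul_mem hy hz)⟩ : ↥(C3 a b c)) =
            ⟨y, ht.closure_le hy⟩ * ⟨z, ht.closure_le hz⟩ from rfl, map_mul, ey, ez, one_mul]
        | inv y hy ey =>
          rw [show (⟨y⁻¹, ht.closure_le (inv_mem hy)⟩ : ↥(C3 a b c)) = ⟨y, ht.closure_le hy⟩⁻¹ from rfl,
            map_inv, ey, inv_one]
      exact this x hx
  -- members
  have hmem : ∀ v : Vec K, IsPt v → ∃ y, ∃ hy : y ∈ T3 D a b c,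
      ψ ⟨y, T3_mem_C3 hy⟩ = ptv hK v := by
    intro v hv
    obtain ⟨e, he', ee⟩ := h1.core.rimg_nb_surj hx2 hx3 (xs.sp.mem hv)
    obtain ⟨y, hy, ey⟩ := h.core.rimg_nb_surj haD ht.hb he'.1
    have hyc : y ∈ nb D c := by
      refine ⟨hy.1.1, fun q => he'.2.2.1 ?_, (h.core.rimg_comm ht.hca hy.1).mp (ey ▸ he'.2.2.2)⟩
      rw [← ey, q]
    refine ⟨y, ⟨hy, hyc⟩, ?_⟩
    rw [← xs.eq hv]
    refine congrArg π (Subtype.ext ?_)
    show ρ2 (f1 ⟨y, _⟩) = xs.sp.pt v
    rw [← ee, show f1 ⟨y, T3_mem_C3 ⟨hy, hyc⟩⟩ = ⟨e, mem_cent he'.1.2.2⟩ from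
      Subtype.ext ((img1 hy.1 _).trans ey)]
    exact resHom_member _ he'.1
  have hcov : ∀ y (hy : y ∈ T3 D a b c), ∃ v, IsPt v ∧ ψ ⟨y, T3_mem_C3 hy⟩ = ptv hK v ∧
      rimg (resSet D a) x2 (rimg D a y) ∈ nb (resSet (resSet D a) x2) y3 ∧
      f2 ⟨y, T3_mem_C3 hy⟩ = rimg (resSet D a) x2 (rimg D a y) := by
    intro y hy
    have e1 := h.core.rimg_nb haD ht.hb hy.1
    have e2 := h.core.rimg_nb haD ht.hca ⟨hy.1.1, hy.2⟩
    have e3 := h1.core.rimg_nb hx2 hx3 ⟨e1, e2⟩
    obtain ⟨v, hv, ev⟩ := xs.sp.surj _ e3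
    have ef : f2 ⟨y, T3_mem_C3 hy⟩ = rimg (resSet D a) x2 (rimg D a y) := by
      show ρ2 (f1 _) = _
      rw [show f1 ⟨y, T3_mem_C3 hy⟩ = ⟨rimg D a y, mem_cent e1.2.2⟩ from Subtype.ext (img1 hy.1.1 _)]
      exact resHom_member _ e1
    refine ⟨v, hv, ?_, e3, ef⟩
    rw [← xs.eq hv]
    exact congrArg π (Subtype.ext (ef.trans ev.symm))
  have inj : ∀ {y z} (hy : y ∈ T3 D a b c) (hz : z ∈ T3 D a b c),
      ψ ⟨y, T3_mem_C3 hy⟩ = ψ ⟨z, T3_mem_C3 hz⟩ → y = z := by
    intro y z hy hz e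
    obtain ⟨v, -, -, my, fy⟩ := hcov y hy
    obtain ⟨w, -, -, mz, fz⟩ := hcov z hz
    have key : rimg (resSet D a) x2 (rimg D a y) = rimg (resSet D a) x2 (rimg D a z) := by
      refine member_inj h2.core hy3 he my mz ?_
      have ey : f3 ⟨y, T3_mem_C3 hy⟩ = ⟨_, mem_cent my.2.2⟩ := Subtype.ext fy
      have ez : f3 ⟨z, T3_mem_C3 hz⟩ = ⟨_, mem_cent mz.2.2⟩ := Subtype.ext fz
      rw [← ey, ← ez]
      exact e
    exact (h.core.rimg_inj haD hy.1.1 hz.1.1).mp ((h1.core.rimg_inj hx2
      (h.core.rimg_nb haD ht.hb hy.1) (h.core.rimg_nb haD ht.hb hz.1)).mp key)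
  choose pt0 hpt0 ept0 using hmem
  let pt : Vec K → G := fun v => if hv : IsPt v then pt0 v hv else 1
  have pmem : ∀ {v}, IsPt v → pt v ∈ T3 D a b c := fun {v} hv => by
    simp only [pt, dif_pos hv]; exact hpt0 v hv
  have peq : ∀ {v} (hv : IsPt v), ψ ⟨pt v, T3_mem_C3 (pmem hv)⟩ = ptv hK v := fun {v} hv =>
    (congrArg ψ (Subtype.ext (dif_pos hv))).trans (ept0 v hv)
  refine ⟨{ sp := { pt := pt, mem := pmem, surj := fun y hy => ?_, same := fun {u v} hu hv => ?_,
                    comm := fun {u v} hu hv => ?_, third := fun {u v} hu hv => ?_,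
                    line := fun {u v} hu hv huv hs {w} hw y hy => ?_ },
            ψ := ψ, eq := fun hv => peq hv, surj := hsurj, ker := hker }⟩
  · obtain ⟨v, hv, ev, -⟩ := hcov y hy
    exact ⟨v, hv, inj (pmem hv) hy ((peq hv).trans ev.symm)⟩
  · refine ⟨fun e => SamePt.symm (ptv_eq hK hu hv.2 ?_) hu.1, fun ⟨t, ht'⟩ => ?_⟩
    · rw [← peq hu, ← peq hv]; exact congrArg ψ (Subtype.ext e)
    · refine inj (pmem hu) (pmem hv) ?_
      rw [peq hu, peq hv, ht', ptv_smul hK (fun z => hv.1 (by rw [ht', z, zero_smul]))]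
  · obtain ⟨r, hr, er, mu, fu⟩ := hcov _ (pmem hu)
    obtain ⟨s, hs, es, mv, fv⟩ := hcov _ (pmem hv)
    have e1u := h.core.rimg_nb haD ht.hb (pmem hu).1
    have e1v := h.core.rimg_nb haD ht.hb (pmem hv).1
    rw [← h.core.rimg_comm (pmem hu).1.1 (pmem hv).1.1, ← h1.core.rimg_comm e1u e1v]
    refine member_comm hK he (mem_cent mu.2.2) (mem_cent mv.2.2) hu hv ?_ ?_
    · exact (congrArg π (Subtype.ext fu.symm)).trans (peq hu)
    · exact (congrArg π (Subtype.ext fv.symm)).trans (peq hv)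
  · have huC := T3_mem_C3 (pmem hu)
    have hvC := T3_mem_C3 (pmem hv)
    have hmem' : pt u * pt v * pt u ∈ T3 D a b c := by
      have fix : ∀ {x}, pt u ∈ nb D x → pt v ∈ nb D x → pt u * pt v * pt u ∈ nb D x :=
        fun {x} hxu hxv => by
          have := htt.nb_conj (pt u) hxv
          rwa [htt.inv_eq hxu.1, show pt u * x * pt u = x by
            rw [hxu.2.2.symm.eq, mul_assoc, htt.sq _ hxu.1, mul_one]] at this
      exact ⟨⟨fix (pmem hu).1.1 (pmem hv).1.1, fix (pmem hu).1.2 (pmem hv).1.2⟩,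
        fix (pmem hu).2 (pmem hv).2⟩
    refine inj hmem' (pmem (isPt_third hK hu hv)) ?_
    rw [peq (isPt_third hK hu hv), ← ptv_conj' hK hu.2 v, ← peq hu, ← peq hv, ← map_mul, ← map_mul]
    rfl
  · have p2 : IsPt (u + v) := by simpa using isPt_line hK hu hv huv hs 1
    have p3 := isPt_line hK hu hv huv hs w
    have p4 := isPt_line hK hu hv huv hs (w ^ 2)
    set P : ↥(C3 a b c) := ⟨pt u, T3_mem_C3 (pmem hu)⟩ * ⟨pt v, T3_mem_C3 (pmem hv)⟩ *
        ⟨pt (u + v), T3_mem_C3 (pmem p2)⟩ * ⟨pt (u + w • v), T3_mem_C3 (pmem p3)⟩ *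
        ⟨pt (u + w ^ 2 • v), T3_mem_C3 (pmem p4)⟩ with hP
    have hπ : ψ P = 1 := by
      rw [hP, map_mul, map_mul, map_mul, map_mul, peq hu, peq hv, peq p2, peq p3, peq p4]
      exact ptv_line hK hu.2 hv.2 huv hw
    have hle : Subgroup.closure ({a, b, c} : Set G) ≤ Subgroup.centralizer ({y} : Set G) := by
      rw [Subgroup.closure_le]
      intro x hx
      simp only [Set.mem_insert_iff, Set.mem_singleton_iff] at hx
      rcases hx with rfl | rfl | rfl
      exacts [mem_cent hy.1.1.2.2.symm, mem_cent hy.1.2.2.2.symm, mem_cent hy.2.2.2.symm]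
    exact (Subgroup.mem_centralizer_singleton_iff.mp (hle ((hker P).mp hπ))).symm

end Hyp

end Cfsg.Agent.H64.M24Triple
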