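import Cfsg.Agent.H93.U4Points

/-!
The twenty-one points of a totally isotropic plane: forms of products of their transvections, and
fifteen dependencies among them.
-/

set_option autoImplicit false

namespace Cfsg.Agent.H64.M24Triple

open Cfsg.Agent.H93

/-- zero -/
def bz : B4 := (false, false)

/-- one -/
def b1 : B4 := (true, false)

/-- omega -/
def bo : B4 := (false, true)

/-- omega squared -/
def bo2 : B4 := (true, true)

/-- coordinates of the points; the first nine give a basis of the Hermitian forms -/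
def codeList : List (B4 × B4 × B4) :=
  [(b1, bz, bz), (bz, b1, bz), (bz, bz, b1), (b1, b1, bz), (b1, bo, bz), (b1, bz, b1), (b1, bz, bo),
    (bz, b1, b1), (bz, b1, bo), (b1, bo2, bz), (b1, bz, bo2), (bz, b1, bo2),
    (b1, b1, b1), (b1, b1, bo), (b1, b1, bo2), (b1, bo, b1), (b1, bo, bo), (b1, bo, bo2),
    (b1, bo2, b1), (b1, bo2, bo), (b1, bo2, bo2)]

/-- a point -/
def code (k : Fin 21) : Fin 3 → B4 :=
  let t := codeList.getD k.1 (bz, bz, bz)
  ![t.1, t.2.1, t.2.2]

/-- the form of a word -/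
def hent (S : Fin 21 → ZMod 2) (i j : Fin 3) : B4 :=
  ((List.finRange 21).map fun k =>
    if S k = 0 then bz else bmul (bmul (code k i) (code k i)) (code k j)).foldr badd bz

/-- supports of dependencies: twelve lines and three hyperovals -/
def relList : List (List ℕ) :=
  [[0, 1, 3, 4, 9], [0, 2, 5, 6, 10], [1, 2, 7, 8, 11], [0, 7, 12, 16, 20], [0, 8, 13, 17, 18],
    [0, 11, 14, 15, 19], [1, 5, 12, 15, 18], [1, 6, 13, 16, 19], [1, 10, 14, 17, 20],
    [2, 3, 12, 13, 14], [2, 4, 15, 16, 17], [2, 9, 18, 19, 20], [0, 1, 2, 12, 17, 19],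
    [0, 1, 2, 13, 15, 20], [0, 1, 2, 14, 16, 18]]

/-- a dependency -/
def rel (m : Fin 15) (k : Fin 21) : ZMod 2 := if k.1 ∈ relList.getD m.1 [] then 1 else 0

/-- eliminating the last twelve points -/
def combList : List ℕ := [1, 2, 4, 4724, 8876, 13016, 9304, 13448, 5328, 13932, 5796, 9972]

/-- the coefficients of the elimination -/
def comb (k : Fin 12) (m : Fin 15) : ZMod 2 :=
  if (combList.getD k.1 0).testBit m.1 then 1 else 0

theorem rel_zero : ∀ m : Fin 15, ∀ i j : Fin 3, hent (rel m) i j = bz := by decide +kernel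

theorem comb_spec : ∀ k l : Fin 12, ∑ m : Fin 15, comb k m * rel m ⟨l.1 + 9, by omega⟩ =
    if k = l then 1 else 0 := by decide +kernel

theorem rel_five : ∀ m : Fin 15, m.1 < 12 →
    (Finset.univ.filter fun k => rel m k ≠ 0).card = 5 := by decide +kernel

theorem rel_six : ∀ m : Fin 15, 12 ≤ m.1 →
    (Finset.univ.filter fun k => rel m k ≠ 0).card = 6 ∧
      (Finset.univ.filter fun k => rel m k + rel 0 k ≠ 0).card = 7 := by decide +kernel

theorem code_cover : ∀ x y z : B4, (x, y, z) ≠ (bz, bz, bz) →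
    ∃ k : Fin 21, ∃ s : B4, s ≠ bz ∧
      x = bmul s (code k 0) ∧ y = bmul s (code k 1) ∧ z = bmul s (code k 2) := by
  decide +kernel

theorem code_inj : ∀ k l : Fin 21, ∀ s : B4, (∀ i, code l i = bmul s (code k i)) → l = k := by
  decide +kernel

theorem code_ne : ∀ k : Fin 21, ∃ i, code k i ≠ bz := by decide +kernel

/-- a vector supported on the basis -/
def ext9 (c0 c1 c2 c3 c4 c5 c6 c7 c8 : ZMod 2) (k : Fin 21) : ZMod 2 :=
  [c0, c1, c2, c3, c4, c5, c6, c7, c8].getD k.1 0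

theorem ext9_eq (S : Fin 21 → ZMod 2) (hS : ∀ k : Fin 21, 9 ≤ k.1 → S k = 0) :
    ext9 (S 0) (S 1) (S 2) (S 3) (S 4) (S 5) (S 6) (S 7) (S 8) = S := by
  funext k
  obtain ⟨k, hk⟩ := k
  by_cases h : k < 9
  · interval_cases k <;> rfl
  · rw [hS ⟨k, hk⟩ (by simpa using Nat.le_of_not_lt h), ext9,
      List.getD_eq_default _ _ (by simpa using Nat.le_of_not_lt h)]

set_option synthInstance.maxSize 2000 in
theorem nine_indep' : ∀ c0 c1 c2 c3 c4 c5 c6 c7 c8 : ZMod 2,
    (∀ i j : Fin 3, hent (ext9 c0 c1 c2 c3 c4 c5 c6 c7 c8) i j = bz) →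
      c0 = 0 ∧ c1 = 0 ∧ c2 = 0 ∧ c3 = 0 ∧ c4 = 0 ∧ c5 = 0 ∧ c6 = 0 ∧ c7 = 0 ∧ c8 = 0 := by
  decide +kernel

set_option synthInstance.maxSize 2000 in
theorem nine_row' : ∀ c0 c1 c2 c3 c4 c5 c6 c7 c8 : ZMod 2,
    (∀ j : Fin 3, hent (ext9 c0 c1 c2 c3 c4 c5 c6 c7 c8) 2 j = bz) →
      c2 = 0 ∧ c5 = 0 ∧ c6 = 0 ∧ c7 = 0 ∧ c8 = 0 := by
  decide +kernel

/-- the first nine points are independent -/
theorem nine_indep (S : Fin 21 → ZMod 2) (hS : ∀ k : Fin 21, 9 ≤ k.1 → S k = 0)
    (h : ∀ i j : Fin 3, hent S i j = bz) : S = 0 := by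
  obtain ⟨e0, e1, e2, e3, e4, e5, e6, e7, e8⟩ :=
    nine_indep' (S 0) (S 1) (S 2) (S 3) (S 4) (S 5) (S 6) (S 7) (S 8) (by rw [ext9_eq S hS]; exact h)
  funext k
  fin_cases k
  all_goals first
    | assumption
    | exact hS _ (by decide)

/-- a basis word with a zero last row lives on the first line -/
theorem nine_row (S : Fin 21 → ZMod 2) (hS : ∀ k : Fin 21, 9 ≤ k.1 → S k = 0)
    (h : ∀ j : Fin 3, hent S 2 j = bz) : ∀ k : Fin 21, S k ≠ 0 → code k 2 = bz := by
  obtain ⟨e2, e5, e6, e7, e8⟩ :=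
    nine_row' (S 0) (S 1) (S 2) (S 3) (S 4) (S 5) (S 6) (S 7) (S 8) (by rw [ext9_eq S hS]; exact h)
  intro k hk
  fin_cases k
  all_goals first
    | decide
    | exact absurd e2 hk
    | exact absurd e5 hk
    | exact absurd e6 hk
    | exact absurd e7 hk
    | exact absurd e8 hk
    | exact absurd (hS _ (by decide)) hk

end Cfsg.Agent.H64.M24Triple
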