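import Cfsg.Agent.H64.M24Triple.Octad

/-!
An octad and one of the three planes of twenty-four commuting members on it.
-/

set_option autoImplicit false

namespace Cfsg.Agent.H64.M24Triple

open Cfsg.Agent.H93

variable {G : Type*} [Group G] {D : Set G}

/-- the members commuting with all of a set -/
def Perp (D X : Set G) : Set G := {y | y ∈ D ∧ ∀ x ∈ X, Commute x y}

/-- the planes on an octad -/
def Planes (D O : Set G) : Set (Set G) :=
  {A | ∃ r ∈ D, r ∉ O ∧ (∀ x ∈ O, Commute x r) ∧ A = Perp D (insert r O)}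

/-- conjugating a set -/
def conjSet (g : G) (X : Set G) : Set G := (fun x => g * x * g⁻¹) '' X

theorem conjSet_one (X : Set G) : conjSet 1 X = X := by
  simp [conjSet]

theorem conjSet_mul (g k : G) (X : Set G) : conjSet (g * k) X = conjSet g (conjSet k X) := by
  rw [conjSet, conjSet, conjSet, Set.image_image]
  exact Set.image_congr fun x _ => by group

theorem mem_conjSet {g x : G} {X : Set G} : x ∈ conjSet g X ↔ g⁻¹ * x * g ∈ X := by
  constructor
  · rintro ⟨y, hy, rfl⟩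
    rwa [show g⁻¹ * (g * y * g⁻¹) * g = y by group]
  · exact fun h => ⟨_, h, by group⟩

theorem conjSet_eq_of_forall [Finite G] {g : G} {X : Set G}
    (h : ∀ x ∈ X, g * x * g⁻¹ ∈ X) : conjSet g X = X :=
  Set.eq_of_subset_of_ncard_le (by rintro _ ⟨x, hx, rfl⟩; exact h x hx)
    (le_of_eq (Set.ncard_image_of_injective X
      (fun x y e => mul_left_cancel (mul_right_cancel e))).symm) (Set.toFinite X)

theorem conjSet_perp (hcore : Core D) (g : G) (X : Set G) :
    conjSet g (Perp D X) = Perp D (conjSet g X) := by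
  ext y
  rw [mem_conjSet]
  constructor
  · rintro ⟨hy, hc⟩
    refine ⟨?_, ?_⟩
    · have := hcore.tt.conj_mem g _ hy
      rwa [show g * (g⁻¹ * y * g) * g⁻¹ = y by group] at this
    · rintro _ ⟨x, hx, rfl⟩
      have := (hc x hx).map (MulAut.conj g).toMonoidHom
      simpa [MulAut.conj_apply, mul_assoc] using this
  · rintro ⟨hy, hc⟩
    refine ⟨?_, fun x hx => ?_⟩
    · have := hcore.tt.conj_mem g⁻¹ _ hy
      simpa using this
    · have := (hc _ ⟨x, hx, rfl⟩).map (MulAut.conj g⁻¹).toMonoidHom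
      simpa [MulAut.conj_apply, mul_assoc] using this

theorem conjSet_planes (hcore : Core D) (g : G) {O A : Set G} (hA : A ∈ Planes D O) :
    conjSet g A ∈ Planes D (conjSet g O) := by
  obtain ⟨r, hr, hrO, hc, rfl⟩ := hA
  refine ⟨g * r * g⁻¹, hcore.tt.conj_mem g r hr, ?_, ?_, ?_⟩
  · rintro ⟨x, hx, e⟩
    exact hrO (mul_left_cancel (mul_right_cancel e) ▸ hx)
  · rintro _ ⟨x, hx, rfl⟩
    exact (hc x hx).map (MulAut.conj g).toMonoidHom
  · rw [conjSet_perp hcore]
    exact congrArg (Perp D) (Set.image_insert_eq (f := fun x => g * x * g⁻¹))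

/-! ### frames -/

section Vec

variable {K : Type*} [Field K] [Fintype K] {hK : Fintype.card K = 4} {u v w e f : Vec K}

theorem frame_pt_v (fr : Frame u v w e f) : IsPt v :=
  ⟨fun q => one_ne_zero (by rw [← fr.ef1, q, hb_zero_left]), fr.e11⟩

theorem frame_pt_e (fr : Frame u v w e f) : IsPt e :=
  ⟨fun q => one_ne_zero (by rw [← fr.ef2, q, hb_zero_left]), fr.e22⟩

include hK in
theorem frame_swap (fr : Frame u v w e f) : Frame u v w f e :=
  ⟨fr.hP, fr.e11, fr.f11, fr.f22, fr.e22, fr.ef1, fr.fe2 hK, fr.ef, fr.ee, fr.ff, fr.fe, fr.pe1,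
    fr.pf1, fr.pf2, fr.pe2⟩

include hK in
theorem frame_sum (fr : Frame u v w e f) : Frame u v w (e + f) e := by
  have fe := fr.fe2 hK
  refine ⟨fr.hP, fr.e11, fr.f11, ?_, fr.e22, fr.ef1, ?_, ?_, fr.ee, ?_, fr.fe, fr.pe1, fr.pf1, ?_,
    fr.pe2⟩
  · rw [hb_add_left, hb_add_right hK, hb_add_right hK, fr.e22, fr.f22, fr.ef2, fe]
    simpa using add_self_zero hK (1 : K)
  · rw [hb_add_left, fr.e22, fe, zero_add]
  · rw [hb_add_right hK, fr.ee, fr.ef, add_zero]
  · rw [hb_add_right hK, fr.fe, fr.ff, add_zero]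
  · rw [hb_add_right hK, fr.pe2, fr.pf2, add_zero]

include hK in
theorem frame_line_li (fr : Frame u v w e f) : LinearIndependent K ![u, v] := by
  refine indep_pair fr.hP.1 fun ⟨r, hr⟩ => ?_
  have := fr.ef1
  rw [hr, hb_smul_left, fr.pf1, mul_zero] at this
  exact zero_ne_one this

include hK in
theorem frame_plane (fr : Frame u v w e f) : ∃ Q, Plane ![u, v, e] Q ∧ Q 2 = f := by
  have z := fun {p q : Vec K} (e : hb p q = 0) => (hb_eq_zero_comm hK).mp e
  exact exists_dual hK (frame_line_li (hK := hK) fr) fr.hP.2 fr.e11 fr.e22 fr.pe1 (z fr.pe2) (z fr.ee)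
    (z fr.pf2) (z fr.ef) (fr.fe2 hK)

end Vec

/-! ### coordinates -/

section Coord

variable {a b c : G} {K : Type*} [Field K] [Fintype K] {hK : Fintype.card K = 4}
  (t : Tri D a b c K hK) (ht : IsTriple D a b c) {u v w e f : Vec K} (fr : Frame u v w e f)

/-- the twenty-four members of a plane -/
def PA (P : Fin 3 → Vec K) : Set G := Set.range (fA (P := P) t)

theorem triple_mem_PA (P : Fin 3 → Vec K) : a ∈ PA t P ∧ b ∈ PA t P ∧ c ∈ PA t P :=
  ⟨⟨Sum.inl 0, rfl⟩, ⟨Sum.inl 1, rfl⟩, ⟨Sum.inl 2, rfl⟩⟩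

theorem pt_mem_PA {P Q : Fin 3 → Vec K} (p : Plane P Q) {x : Vec K} (hx : IsPt x)
    (hxP : x ∈ Submodule.span K (Set.range P)) : t.sp.pt x ∈ PA t P := by
  obtain ⟨k, hk⟩ := pv_cover (hK := hK) p hx hxP
  exact ⟨Sum.inr k, (t.sp.same (pv_pt (hK := hK) p k) hx).mpr hk⟩

theorem triple_mem_octSet (P : Fin 3 → Vec K) : a ∈ octSet t P ∧ b ∈ octSet t P ∧ c ∈ octSet t P :=
  ⟨List.mem_map.mpr ⟨_, mem_octIdx_inl 0, rfl⟩, List.mem_map.mpr ⟨_, mem_octIdx_inl 1, rfl⟩,
    List.mem_map.mpr ⟨_, mem_octIdx_inl 2, rfl⟩⟩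

include fr in
theorem line_mem_octSet : t.sp.pt u ∈ octSet t ![u, v, e] ∧ t.sp.pt v ∈ octSet t ![u, v, e] := by
  refine ⟨List.mem_map.mpr ⟨Sum.inr 0, mem_octIdx_inr (by decide), ?_⟩,
    List.mem_map.mpr ⟨Sum.inr 1, mem_octIdx_inr (by decide), ?_⟩⟩
  · show t.sp.pt (pv hK _ 0) = _
    rw [pv_zero]; rfl
  · show t.sp.pt (pv hK _ 1) = _
    rw [pv_one]; rfl

theorem code_octIdx : ∀ k : Fin 21, (k = 0 ∨ k = 1 ∨ k = 3 ∨ k = 4 ∨ k = 9) → code k 2 = bz := by
  decide +kernel

include fr in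
/-- the octad of a line -/
theorem mem_octSet {y : G} : y ∈ octSet t ![u, v, e] ↔ y = a ∨ y = b ∨ y = c ∨
    ∃ x, IsPt x ∧ x ∈ Submodule.span K (Set.range ![u, v]) ∧ y = t.sp.pt x := by
  obtain ⟨Q, p, hQ⟩ := frame_plane (hK := hK) fr
  constructor
  · intro hy
    obtain ⟨i, hi, rfl⟩ := List.mem_map.mp hy
    rcases i with i | k
    · fin_cases i
      exacts [Or.inl rfl, Or.inr (Or.inl rfl), Or.inr (Or.inr (Or.inl rfl))]
    · refine Or.inr (Or.inr (Or.inr ⟨_, pv_pt (hK := hK) p k, ?_, rfl⟩))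
      have hk : code k 2 = bz := code_octIdx k (by simpa [octIdx] using hi)
      simp only [pv, Fin.sum_univ_three, hk, bval_bz, zero_smul, add_zero]
      exact Submodule.add_mem _ (Submodule.smul_mem _ _ (Submodule.subset_span ⟨0, rfl⟩))
        (Submodule.smul_mem _ _ (Submodule.subset_span ⟨1, rfl⟩))
  · rintro (rfl | rfl | rfl | ⟨x, hx, hxs, rfl⟩)
    · exact (triple_mem_octSet t _).1
    · exact (triple_mem_octSet t _).2.1
    · exact (triple_mem_octSet t _).2.2
    · obtain ⟨g, rfl⟩ := (Submodule.mem_span_range_iff_exists_fun K).mp hxs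
      have hxf : hb (∑ i, g i • ![u, v] i) f = 0 := by
        simp [Fin.sum_univ_two, hb_add_left, hb_smul_left, fr.pf2, fr.ef]
      obtain ⟨k, hk⟩ := pv_cover (hK := hK) p hx (Submodule.sum_mem _ fun i _ =>
        Submodule.smul_mem _ _ (Submodule.subset_span (by
          fin_cases i
          exacts [⟨0, rfl⟩, ⟨1, rfl⟩])))
      have hk2 : code k 2 = bz := by
        refine bval_inj hK ?_
        obtain ⟨r, hr⟩ := hk
        have hr0 : r ≠ 0 := fun q => hx.1 (by rw [hr, q, zero_smul])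
        have := hxf
        rw [hr, hb_smul_left, ← hQ, pv_hbQ p] at this
        rw [bval_bz]
        exact (mul_eq_zero.mp this).resolve_left hr0
      exact List.mem_map.mpr ⟨Sum.inr k, mem_octIdx_inr hk2,
        (t.sp.same (pv_pt (hK := hK) p k) hx).mpr hk⟩

include fr in
theorem octSet_congr {e' f' : Vec K} (fr' : Frame u v w e' f') :
    octSet t ![u, v, e'] = octSet t ![u, v, e] := by
  ext y; rw [mem_octSet t fr, mem_octSet t fr']

include fr in
theorem octSet_subset_PA : octSet t ![u, v, e] ⊆ PA t ![u, v, e] := by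
  intro y hy
  obtain ⟨i, -, rfl⟩ := List.mem_map.mp hy
  exact ⟨i, rfl⟩

include fr in
theorem pt_notMem_octSet (ht : IsTriple D a b c) {x : Vec K} (hx : IsPt x) (h : hb x f ≠ 0) :
    t.sp.pt x ∉ octSet t ![u, v, e] := by
  intro hy
  have hm := t.sp.mem hx
  rcases (mem_octSet t fr).mp hy with q | q | q | ⟨z, hz, hzs, q⟩
  · exact hm.1.1.2.1 q
  · exact hm.1.2.2.1 q
  · exact hm.2.2.1 q
  · obtain ⟨r, rfl⟩ := (t.sp.same hz hx).mp q.symm
    obtain ⟨g, rfl⟩ := (Submodule.mem_span_range_iff_exists_fun K).mp hzs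
    simp [Fin.sum_univ_two, hb_add_left, hb_smul_left, fr.pf2, fr.ef] at h

include ht fr in
/-- the plane is recovered from any further member in it -/
theorem perp_eq {x : Vec K} (hx : IsPt x) (hxP : x ∈ Submodule.span K (Set.range ![u, v, e]))
    (hxf : hb x f ≠ 0) :
    Perp D (insert (t.sp.pt x) (octSet t ![u, v, e])) = PA t ![u, v, e] := by
  obtain ⟨Q, p, hQ⟩ := frame_plane (hK := hK) fr
  ext y
  constructor
  · rintro ⟨hy, hc⟩
    by_cases ea : y = a
    · rw [ea]; exact (triple_mem_PA t _).1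
    by_cases eb : y = b
    · rw [eb]; exact (triple_mem_PA t _).2.1
    by_cases ec : y = c
    · rw [ec]; exact (triple_mem_PA t _).2.2
    have hO := triple_mem_octSet t ![u, v, e]
    have hm : y ∈ T3 D a b c :=
      ⟨⟨⟨hy, ea, hc a (Set.mem_insert_of_mem _ hO.1)⟩, hy, eb, hc b (Set.mem_insert_of_mem _ hO.2.1)⟩,
        hy, ec, hc c (Set.mem_insert_of_mem _ hO.2.2)⟩
    obtain ⟨z, hz, rfl⟩ := t.sp.surj y hm
    have hu := (t.sp.comm hz fr.hP).mp (hc _ (Set.mem_insert_of_mem _ (line_mem_octSet t fr).1)).symm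
    have hv := (t.sp.comm hz (frame_pt_v fr)).mp
      (hc _ (Set.mem_insert_of_mem _ (line_mem_octSet t fr).2)).symm
    have hzx := (t.sp.comm hz hx).mp (hc _ (Set.mem_insert _ _)).symm
    obtain ⟨g, rfl⟩ := (Submodule.mem_span_range_iff_exists_fun K).mp hxP
    have hg : g 2 ≠ 0 := fun q => hxf (by
      simp [Fin.sum_univ_three, hb_add_left, hb_smul_left, fr.pf2, fr.ef, q])
    have he : hb z e = 0 := by
      simp only [Fin.sum_univ_three, Matrix.cons_val_zero, Matrix.cons_val_one, Matrix.cons_val_two,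
        Matrix.tail_cons, Matrix.head_cons, hb_add_right hK, hb_smul_right, hu, hv, mul_zero,
        zero_add] at hzx
      exact (mul_eq_zero.mp hzx).resolve_left (pow_ne_zero 2 hg)
    exact pt_mem_PA t p hz (p.perp_mem hK fun i => by fin_cases i <;> assumption)
  · rintro ⟨i, rfl⟩
    refine ⟨fA_mem p t ht i, ?_⟩
    rintro z (rfl | hz)
    · obtain ⟨j, hj⟩ := pt_mem_PA t p hx hxP
      rw [← hj]; exact fA_comm p t ht j i
    · obtain ⟨j, hj⟩ := octSet_subset_PA t fr hz
      rw [← hj]; exact fA_comm p t ht j i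

include ht fr in
theorem PA_mem_planes : PA t ![u, v, e] ∈ Planes D (octSet t ![u, v, e]) := by
  obtain ⟨Q, p, -⟩ := frame_plane (hK := hK) fr
  have he := frame_pt_e fr
  have hes : e ∈ Submodule.span K (Set.range ![u, v, e]) := Submodule.subset_span ⟨2, rfl⟩
  have hef : hb e f ≠ 0 := by rw [fr.ef2]; exact one_ne_zero
  refine ⟨t.sp.pt e, (t.sp.mem he).1.1.1, pt_notMem_octSet t fr ht he hef, fun z hz => ?_,
    (perp_eq t ht fr he hes hef).symm⟩
  obtain ⟨j, hj⟩ := octSet_subset_PA t fr hz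
  obtain ⟨i, hi⟩ := pt_mem_PA t p he hes
  rw [← hj, ← hi]
  exact fA_comm p t ht j i

include ht fr in
/-- the three planes -/
theorem planes_eq : Planes D (octSet t ![u, v, e]) =
    {PA t ![u, v, e], PA t ![u, v, f], PA t ![u, v, e + f]} := by
  have f1 := frame_swap (hK := hK) fr
  have f2 := frame_sum (hK := hK) fr
  have o1 := octSet_congr t fr f1
  have o2 := octSet_congr t fr f2
  ext A
  constructor
  · rintro ⟨r, hr, hrO, hc, rfl⟩
    have hO := triple_mem_octSet t ![u, v, e]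
    have hm : r ∈ T3 D a b c :=
      ⟨⟨⟨hr, fun q => hrO (q ▸ hO.1), hc a hO.1⟩, hr, fun q => hrO (q ▸ hO.2.1), hc b hO.2.1⟩,
        hr, fun q => hrO (q ▸ hO.2.2), hc c hO.2.2⟩
    obtain ⟨x, hx, rfl⟩ := t.sp.surj r hm
    have hu := (t.sp.comm hx fr.hP).mp (hc _ (line_mem_octSet t fr).1).symm
    have hv := (t.sp.comm hx (frame_pt_v fr)).mp (hc _ (line_mem_octSet t fr).2).symm
    obtain ⟨n, hn⟩ := fr.coord hK hu
    rw [hv, zero_smul, add_zero] at hn
    have hiso := fr.form hK n (hb x w) 0 (hb x f) (hb x e) n (hb x w) 0 (hb x f) (hb x e)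
    rw [zero_smul, add_zero, ← hn, hx.2] at hiso
    have hfac : hb x f * hb x e * (hb x e + hb x f) = 0 := by linear_combination -hiso
    have su : u ∈ Submodule.span K (Set.range ![u, v]) := Submodule.subset_span ⟨0, rfl⟩
    have sv : v ∈ Submodule.span K (Set.range ![u, v]) := Submodule.subset_span ⟨1, rfl⟩
    have key : hb x f ≠ 0 ∨ hb x e ≠ 0 := by
      by_contra q
      simp only [not_or, not_not] at q
      rw [q.1, q.2, zero_smul, add_zero, zero_smul, add_zero] at hn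
      exact hrO ((mem_octSet t fr).mpr (Or.inr (Or.inr (Or.inr ⟨x, hx, by
        rw [hn]; exact Submodule.add_mem _ (Submodule.smul_mem _ _ su) (Submodule.smul_mem _ _ sv),
        rfl⟩))))
    have mem3 : ∀ (R : Vec K) (s : K), n • u + hb x w • v + s • R ∈
        Submodule.span K (Set.range ![u, v, R]) := fun R s =>
      Submodule.add_mem _ (Submodule.add_mem _ (Submodule.smul_mem _ _ (Submodule.subset_span ⟨0, rfl⟩))
        (Submodule.smul_mem _ _ (Submodule.subset_span ⟨1, rfl⟩)))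
        (Submodule.smul_mem _ _ (Submodule.subset_span ⟨2, rfl⟩))
    simp only [Set.mem_insert_iff, Set.mem_singleton_iff]
    by_cases he0 : hb x e = 0
    · left
      refine perp_eq t ht fr hx ?_ (key.resolve_right (not_not.mpr he0))
      rw [he0, zero_smul, add_zero] at hn
      rw [hn]; exact mem3 e _
    by_cases hf0 : hb x f = 0
    · right; left
      rw [← o1]
      refine perp_eq t ht f1 hx ?_ he0
      rw [hf0, zero_smul, add_zero] at hn
      rw [hn]; exact mem3 f _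
    · right; right
      have heq : hb x e = hb x f :=
        eq_of_sub_eq_zero (by
          have := (mul_eq_zero.mp hfac).resolve_left (mul_ne_zero hf0 he0)
          linear_combination this - hb x f * two_zero hK)
      rw [← o2]
      refine perp_eq t ht f2 hx ?_ he0
      rw [heq] at hn
      rw [hn, add_assoc (n • u + hb x w • v), ← smul_add]
      exact mem3 (e + f) _
  · simp only [Set.mem_insert_iff, Set.mem_singleton_iff]
    rintro (rfl | rfl | rfl)
    · exact PA_mem_planes t ht fr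
    · rw [← o1]; exact PA_mem_planes t ht f1
    · rw [← o2]; exact PA_mem_planes t ht f2

include fr in
theorem pt_notMem_PA {x : Vec K} (hx : IsPt x) (hxe : hb x e ≠ 0) : t.sp.pt x ∉ PA t ![u, v, e] := by
  obtain ⟨Q, p, -⟩ := frame_plane (hK := hK) fr
  rintro ⟨i, hi⟩
  rcases i with i | k
  · have hm := t.sp.mem hx
    fin_cases i
    exacts [hm.1.1.2.1 hi.symm, hm.1.2.2.1 hi.symm, hm.2.2.1 hi.symm]
  · obtain ⟨r, rfl⟩ := (t.sp.same (pv_pt (hK := hK) p k) hx).mp hi
    exact hxe (by rw [hb_smul_left, p.hb_plane hK (pv_span (hK := hK) k) (v := e) (Submodule.subset_span ⟨2, rfl⟩), mul_zero])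

include ht fr in
theorem planes_card : (Planes D (octSet t ![u, v, e])).ncard = 3 := by
  have f1 := frame_swap (hK := hK) fr
  have f2 := frame_sum (hK := hK) fr
  have own : ∀ {R S : Vec K}, Frame u v w R S → t.sp.pt R ∈ PA t ![u, v, R] := fun {R S} F => by
    obtain ⟨Q, p, -⟩ := frame_plane (hK := hK) F
    exact pt_mem_PA t p (frame_pt_e F) (Submodule.subset_span ⟨2, rfl⟩)
  rw [planes_eq t ht fr]
  refine Set.ncard_eq_three.mpr ⟨_, _, _, fun q => ?_, fun q => ?_, fun q => ?_, rfl⟩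
  · exact pt_notMem_PA t fr (frame_pt_e f1) (by rw [fr.fe2 hK]; exact one_ne_zero) (q ▸ own f1)
  · exact pt_notMem_PA t fr (frame_pt_e f2) (by rw [f2.ef2]; exact one_ne_zero) (q ▸ own f2)
  · refine pt_notMem_PA t f1 (frame_pt_e f2) ?_ (q ▸ own f2)
    rw [hb_add_left, fr.ef2, fr.f22, add_zero]; exact one_ne_zero

end Coord

/-! ### flags -/

/-- coordinates adapted to a flag -/
structure Coord (D O A : Set G) (a b c : G) (K : Type*) [Field K] [Fintype K]
    (hK : Fintype.card K = 4) where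
  /-- the representation -/
  t : Tri D a b c K hK
  ht : IsTriple D a b c
  /-- the first point of the line -/
  u : Vec K
  /-- the second point of the line -/
  v : Vec K
  /-- its partner -/
  w : Vec K
  /-- the plane's third vector -/
  e : Vec K
  /-- its partner -/
  f : Vec K
  fr : Frame u v w e f
  hO : O = octSet t ![u, v, e]
  hA : A = PA t ![u, v, e]

/-- an octad and a plane on it -/
structure IsFlag (D O A : Set G) : Prop where
  oct : IsOctad D O
  plane : A ∈ Planes D O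

namespace Hyp

variable [Finite G] (h : Hyp D) {O A : Set G}

include h

theorem exists_frame_five {x : Fin 5 → G} (hO : IsOctad D O) (hi : Function.Injective x)
    (hx : ∀ i, x i ∈ O) :
    IsTriple D (x 0) (x 1) (x 2) ∧
    ∃ (K : Type) (_ : Field K) (_ : Fintype K) (hK : Fintype.card K = 4)
      (t : Tri D (x 0) (x 1) (x 2) K hK) (u v w e f : Vec K),
      Frame u v w e f ∧ t.sp.pt u = x 3 ∧ t.sp.pt v = x 4 ∧ O = octSet t ![u, v, e] := by
  have nbm : ∀ {i j}, i ≠ j → x j ∈ nb D (x i) := fun hij =>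
    ⟨hO.subset (hx _), fun q => hij (hi q).symm, hO.commute (hx _) (hx _)⟩
  have ht : IsTriple D (x 0) (x 1) (x 2) :=
    ⟨hO.subset (hx 0), nbm (by decide), nbm (by decide), nbm (by decide)⟩
  obtain ⟨K, iK, iKF, hK, ⟨t⟩⟩ := h.exists_tri ht
  have m3 : x 3 ∈ T3 D (x 0) (x 1) (x 2) :=
    ⟨⟨nbm (by decide), nbm (by decide)⟩, nbm (by decide)⟩
  have m4 : x 4 ∈ T3 D (x 0) (x 1) (x 2) :=
    ⟨⟨nbm (by decide), nbm (by decide)⟩, nbm (by decide)⟩
  obtain ⟨u, hu, eu⟩ := t.sp.surj _ m3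
  obtain ⟨v, hv, ev⟩ := t.sp.surj _ m4
  have huv : hb u v = 0 := (t.sp.comm hu hv).mp (by rw [eu, ev]; exact hO.commute (hx 3) (hx 4))
  have hs : ¬ SamePt u v := fun q => by
    have := (t.sp.same hu hv).mpr q
    rw [eu, ev] at this
    exact absurd (hi this) (by decide)
  obtain ⟨w, e, f, fr⟩ := exists_line_frame hK hu hv huv hs
  refine ⟨ht, K, iK, iKF, hK, t, u, v, w, e, f, fr, eu, ev, ?_⟩
  obtain ⟨Q, p, -⟩ := frame_plane (hK := hK) fr
  refine hO.eq_of_five h.core h.ind (octSet_isOctad p t h.core ht h.ind) hi hx fun i => ?_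
  fin_cases i
  exacts [(triple_mem_octSet t _).1, (triple_mem_octSet t _).2.1, (triple_mem_octSet t _).2.2,
    eu ▸ (line_mem_octSet t fr).1, ev ▸ (line_mem_octSet t fr).2]

/-- five points of an octad -/
theorem exists_five (hO : IsOctad D O) :
    ∃ x : Fin 5 → G, Function.Injective x ∧ ∀ i, x i ∈ O := by
  have hc : Nat.card ↥O = 8 := by rw [Nat.card_coe_set_eq, hO.ncard]
  let e := (Finite.equivFinOfCardEq hc).symm
  exact ⟨fun i => (e (Fin.castLE (by norm_num) i) : G), fun i j q =>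
    Fin.castLE_injective _ (e.injective (Subtype.ext q)), fun i => (e _).2⟩

theorem planes_three (hO : IsOctad D O) : (Planes D O).ncard = 3 := by
  obtain ⟨x, hi, hx⟩ := h.exists_five hO
  obtain ⟨ht, K, iK, iKF, hK, t, u, v, w, e, f, fr, -, -, rfl⟩ := h.exists_frame_five hO hi hx
  exact planes_card t ht fr

/-- coordinates through five given points of the octad -/
theorem exists_coord (hF : IsFlag D O A) {x : Fin 5 → G} (hi : Function.Injective x)
    (hx : ∀ i, x i ∈ O) :
    ∃ (K : Type) (_ : Field K) (_ : Fintype K) (hK : Fintype.card K = 4)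
      (C : Coord D O A (x 0) (x 1) (x 2) K hK), C.t.sp.pt C.u = x 3 ∧ C.t.sp.pt C.v = x 4 := by
  obtain ⟨ht, K, iK, iKF, hK, t, u, v, w, e, f, fr, eu, ev, hO⟩ := h.exists_frame_five hF.oct hi hx
  refine ⟨K, iK, iKF, hK, ?_⟩
  have hA := hF.plane
  rw [hO, planes_eq t ht fr] at hA
  simp only [Set.mem_insert_iff, Set.mem_singleton_iff] at hA
  rcases hA with hA | hA | hA
  · exact ⟨⟨t, ht, u, v, w, e, f, fr, hO, hA⟩, eu, ev⟩
  · exact ⟨⟨t, ht, u, v, w, f, e, frame_swap (hK := hK) fr,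
      hO.trans (octSet_congr t fr (frame_swap (hK := hK) fr)).symm, hA⟩, eu, ev⟩
  · exact ⟨⟨t, ht, u, v, w, e + f, e, frame_sum (hK := hK) fr,
      hO.trans (octSet_congr t fr (frame_sum (hK := hK) fr)).symm, hA⟩, eu, ev⟩

theorem exists_coord' (hF : IsFlag D O A) :
    ∃ (a b c : G) (K : Type) (_ : Field K) (_ : Fintype K) (hK : Fintype.card K = 4),
      Nonempty (Coord D O A a b c K hK) := by
  obtain ⟨x, hi, hx⟩ := h.exists_five hF.oct
  obtain ⟨K, iK, iKF, hK, C, -⟩ := h.exists_coord hF hi hx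
  exact ⟨_, _, _, K, iK, iKF, hK, ⟨C⟩⟩

end Hyp

namespace IsFlag

variable {O A : Set G} (hF : IsFlag D O A)

include hF

theorem subset_mem : A ⊆ D := by
  obtain ⟨r, -, -, -, rfl⟩ := hF.plane
  exact fun y hy => hy.1

theorem octad_subset : O ⊆ A := by
  obtain ⟨r, -, -, hc, rfl⟩ := hF.plane
  intro y hy
  refine ⟨hF.oct.subset hy, ?_⟩
  rintro z (rfl | hz)
  exacts [(hc y hy).symm, hF.oct.commute hz hy]

theorem exists_outside : ∃ r ∈ A, r ∉ O := by
  obtain ⟨r, hr, hrO, hc, rfl⟩ := hF.plane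
  refine ⟨r, ⟨hr, ?_⟩, hrO⟩
  rintro z (rfl | hz)
  exacts [Commute.refl _, hc z hz]

theorem commute [Finite G] (h : Hyp D) {x y : G} (hx : x ∈ A) (hy : y ∈ A) : Commute x y := by
  obtain ⟨a, b, c, K, iK, iKF, hK, ⟨C⟩⟩ := h.exists_coord' hF
  obtain ⟨Q, p, -⟩ := frame_plane (hK := hK) C.fr
  rw [C.hA] at hx hy
  obtain ⟨i, rfl⟩ := hx
  obtain ⟨j, rfl⟩ := hy
  exact fA_comm p C.t C.ht i j

theorem perp [Finite G] (h : Hyp D) {r : G} (hr : r ∈ A) (hrO : r ∉ O) :
    A = Perp D (insert r O) := by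
  obtain ⟨a, b, c, K, iK, iKF, hK, ⟨C⟩⟩ := h.exists_coord' hF
  obtain ⟨Q, p, hQ⟩ := frame_plane (hK := hK) C.fr
  rw [C.hA] at hr
  obtain ⟨i, rfl⟩ := hr
  rcases i with i | k
  · exfalso
    have := triple_mem_octSet C.t ![C.u, C.v, C.e]
    rw [← C.hO] at this
    fin_cases i
    exacts [hrO this.1, hrO this.2.1, hrO this.2.2]
  · show A = Perp D (insert (C.t.sp.pt (pv hK ![C.u, C.v, C.e] k)) O)
    refine C.hA.trans (Eq.trans ?_ (congrArg (fun O => Perp D (insert _ O)) C.hO.symm))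
    refine (perp_eq C.t C.ht C.fr (pv_pt (hK := hK) p k) (pv_span k) ?_).symm
    rw [← hQ, pv_hbQ p]
    intro q
    refine hrO ((Set.ext_iff.mp C.hO _).mpr
      (List.mem_map.mpr ⟨Sum.inr k, mem_octIdx_inr (bval_inj hK ?_), rfl⟩))
    rw [bval_bz]; exact q

theorem inter_eq [Finite G] (h : Hyp D) {A' : Set G} (hF' : IsFlag D O A') {r : G} (hr : r ∈ A)
    (hr' : r ∈ A') (hrO : r ∉ O) : A = A' :=
  (hF.perp h hr hrO).trans (hF'.perp h hr' hrO).symm

/-- a member normalising a flag lies in its plane -/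
theorem member_mem [Finite G] (h : Hyp D) {y : G} (hy : y ∈ D) (hO : ∀ x ∈ O, Commute x y)
    (hA : conjSet y A = A) : y ∈ A := by
  by_contra hn
  obtain ⟨r, hr, hrO⟩ := hF.exists_outside
  have hnc : ¬ Commute r y := fun q => hn (by
    rw [hF.perp h hr hrO]
    refine ⟨hy, ?_⟩
    rintro z (rfl | hz)
    exacts [q, hO z hz])
  have hm : y * r * y⁻¹ ∈ A := hA ▸ ⟨r, hr, rfl⟩
  rw [h.core.tt.inv_eq hy] at hm
  have hbraid : y * r * y = r * y * r := h.core.tt.braid hy (hF.subset_mem hr) fun q => hnc q.symm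
  have hcom := hF.commute h hr hm
  rw [hbraid] at hcom
  have hsq := h.core.tt.sq r (hF.subset_mem hr)
  refine hnc ?_
  have e : r * (r * y * r) = r * y * r * r := hcom.eq
  rw [← mul_assoc, ← mul_assoc, hsq, one_mul, mul_assoc (r * y), hsq, mul_one] at e
  exact e.symm

end IsFlag

end Cfsg.Agent.H64.M24Triple
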