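import Cfsg.Agent.H64.M24Triple.Flag

/-!
The stabiliser of a flag and its subgroup of even words: it misses the members, and with one member it
is the pointwise stabiliser of the octad.
-/

set_option autoImplicit false

namespace Cfsg.Agent.H64.M24Triple

open Cfsg.Agent.H93

variable {G : Type*} [Group G] {D : Set G}

/-- the stabiliser of a flag -/
def flagSub (O A : Set G) : Subgroup G where
  carrier := {g | conjSet g O = O ∧ conjSet g A = A}
  one_mem' := ⟨conjSet_one O, conjSet_one A⟩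
  mul_mem' := fun {g k} hg hk =>
    ⟨by rw [conjSet_mul, hk.1, hg.1], by rw [conjSet_mul, hk.2, hg.2]⟩
  inv_mem' := fun {g} hg => by
    refine ⟨?_, ?_⟩
    · calc conjSet g⁻¹ O = conjSet g⁻¹ (conjSet g O) := by rw [hg.1]
        _ = O := by rw [← conjSet_mul, inv_mul_cancel, conjSet_one]
    · calc conjSet g⁻¹ A = conjSet g⁻¹ (conjSet g A) := by rw [hg.2]
        _ = A := by rw [← conjSet_mul, inv_mul_cancel, conjSet_one]

theorem mem_flagSub {O A : Set G} {g : G} :
    g ∈ flagSub O A ↔ conjSet g O = O ∧ conjSet g A = A := Iff.rfl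

/-- products of two members of a set -/
def pairs (A : Set G) : Set G := {g | ∃ x ∈ A, ∃ y ∈ A, g = x * y}

/-- the even words of the other planes off the octad -/
def kerGen (D O A : Set G) : Set G :=
  pairs A ∪ {g | ∃ A' ∈ Planes D O, A' ≠ A ∧ g ∈ pairs (A' \ O)}

/-- the even part of the pointwise stabiliser of the octad -/
def kerSub (D O A : Set G) : Subgroup G := Subgroup.closure (kerGen D O A)

theorem pairs_conj {A : Set G} {g k : G} (hg : conjSet g A = A) (hk : k ∈ pairs A) :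
    g * k * g⁻¹ ∈ pairs A := by
  obtain ⟨x, hx, y, hy, rfl⟩ := hk
  exact ⟨g * x * g⁻¹, hg ▸ ⟨x, hx, rfl⟩, g * y * g⁻¹, hg ▸ ⟨y, hy, rfl⟩, by group⟩

theorem closure_conj_mem {s : Set G} {g k : G} (hs : ∀ x ∈ s, g * x * g⁻¹ ∈ s)
    (hk : k ∈ Subgroup.closure s) : g * k * g⁻¹ ∈ Subgroup.closure s := by
  induction hk using Subgroup.closure_induction with
  | mem x hx => exact Subgroup.subset_closure (hs x hx)
  | one => simp
  | mul x y _ _ hx hy =>
    rw [show g * (x * y) * g⁻¹ = g * x * g⁻¹ * (g * y * g⁻¹) by group]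
    exact mul_mem hx hy
  | inv x _ hx =>
    rw [show g * x⁻¹ * g⁻¹ = (g * x * g⁻¹)⁻¹ by group]
    exact inv_mem hx

theorem conjSet_self_of_commute [Finite G] {y : G} {X : Set G} (h : ∀ x ∈ X, Commute y x) :
    conjSet y X = X := conjSet_eq_of_forall fun x hx => by
  rwa [(h x hx).eq, mul_inv_cancel_right]

namespace IsFlag

variable [Finite G] {O A : Set G} (hF : IsFlag D O A) (h : Hyp D)

include hF

theorem kerGen_conj (h : Hyp D) {g k : G} (hg : g ∈ flagSub O A) (hk : k ∈ kerGen D O A) :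
    g * k * g⁻¹ ∈ kerGen D O A := by
  rcases hk with hk | ⟨A', hA', hne, hk⟩
  · exact Or.inl (pairs_conj hg.2 hk)
  · refine Or.inr ⟨conjSet g A', ?_, fun q => hne ?_, ?_⟩
    · have := conjSet_planes h.core g hA'
      rwa [hg.1] at this
    · have := congrArg (conjSet g⁻¹) (q.trans hg.2.symm)
      rwa [← conjSet_mul, ← conjSet_mul, inv_mul_cancel, conjSet_one, conjSet_one] at this
    · obtain ⟨x, hx, y, hy, rfl⟩ := hk
      have fix : ∀ {z : G}, z ∈ A' \ O → g * z * g⁻¹ ∈ conjSet g A' \ O := fun {z} hz => by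
        refine ⟨⟨z, hz.1, rfl⟩, fun q => hz.2 ?_⟩
        rw [← hg.1, mem_conjSet] at q
        rwa [show g⁻¹ * (g * z * g⁻¹) * g = z by group] at q
      exact ⟨g * x * g⁻¹, fix hx, g * y * g⁻¹, fix hy, by group⟩

theorem kerSub_conj (h : Hyp D) {g k : G} (hg : g ∈ flagSub O A) (hk : k ∈ kerSub D O A) :
    g * k * g⁻¹ ∈ kerSub D O A :=
  closure_conj_mem (fun _ hx => hF.kerGen_conj h hg hx) hk

include h

theorem commute_octad {y o : G} (hy : y ∈ A) (ho : o ∈ O) : Commute y o :=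
  hF.commute h hy (hF.octad_subset ho)

theorem plane_le {x : G} (hx : x ∈ A) : x ∈ flagSub O A :=
  ⟨conjSet_self_of_commute fun _ ho => hF.commute_octad h hx ho,
    conjSet_self_of_commute fun _ hz => hF.commute h hx hz⟩

/-- a member of another plane swaps the remaining two -/
theorem swap_plane {A' A'' : Set G} (hA' : A' ∈ Planes D O) (hA'' : A'' ∈ Planes D O) (h1 : A' ≠ A)
    (h2 : A'' ≠ A) (h3 : A'' ≠ A') {y : G} (hy : y ∈ A') (hyO : y ∉ O) : conjSet y A = A'' := by
  have hF' : IsFlag D O A' := ⟨hF.oct, hA'⟩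
  obtain ⟨hO', hA0⟩ := hF'.plane_le h hy
  have hne : conjSet y A ≠ A := fun q => h1 ((hF'.inter_eq h hF hy
    (hF.member_mem h (hF'.subset_mem hy) (fun x hx => (hF'.commute_octad h hy hx).symm) q) hyO))
  have hne' : conjSet y A ≠ A' := fun q => h1 (by
    have := congrArg (conjSet y⁻¹) (q.trans hA0.symm)
    rwa [← conjSet_mul, ← conjSet_mul, inv_mul_cancel, conjSet_one, conjSet_one, eq_comm] at this)
  have hm : conjSet y A ∈ Planes D O := by
    have := conjSet_planes h.core y hF.plane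
    rwa [hO'] at this
  have hc : (Planes D O \ {A, A'}).ncard = 1 := by
    rw [Set.ncard_sdiff (by rintro z (rfl | rfl); exacts [hF.plane, hA']), h.planes_three hF.oct,
      Set.ncard_pair h1.symm]
  obtain ⟨Z, hZ⟩ := Set.ncard_eq_one.mp hc
  have e1 : conjSet y A ∈ Planes D O \ {A, A'} := ⟨hm, by simp [hne, hne']⟩
  have e2 : A'' ∈ Planes D O \ {A, A'} := ⟨hA'', by simp [h2, h3]⟩
  rw [hZ, Set.mem_singleton_iff] at e1 e2
  exact e1.trans e2.symm

theorem kerGen_flag {k : G} (hk : k ∈ kerGen D O A) : k ∈ flagSub O A := by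
  rcases hk with ⟨x, hx, y, hy, rfl⟩ | ⟨A', hA', hne, y, hy, y', hy', rfl⟩
  · exact mul_mem (hF.plane_le h hx) (hF.plane_le h hy)
  · have hF' : IsFlag D O A' := ⟨hF.oct, hA'⟩
    have hc : (Planes D O \ {A, A'}).Nonempty := by
      rw [← Set.ncard_pos, Set.ncard_sdiff (by rintro z (rfl | rfl); exacts [hF.plane, hA']),
        h.planes_three hF.oct, Set.ncard_pair hne.symm]
      norm_num
    obtain ⟨A'', hA'', hn⟩ := hc
    simp only [Set.mem_insert_iff, Set.mem_singleton_iff, not_or] at hn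
    obtain ⟨o1, -⟩ := hF'.plane_le h hy.1
    obtain ⟨o2, -⟩ := hF'.plane_le h hy'.1
    refine ⟨by rw [conjSet_mul, o2, o1], ?_⟩
    rw [conjSet_mul, hF.swap_plane h hA' hA'' hne hn.1 hn.2 hy'.1 hy'.2,
      ← hF.swap_plane h hA' hA'' hne hn.1 hn.2 hy.1 hy.2, ← conjSet_mul,
      h.core.tt.sq y (hF'.subset_mem hy.1), conjSet_one]

theorem kerSub_le : kerSub D O A ≤ flagSub O A :=
  (Subgroup.closure_le _).mpr fun _ hk => hF.kerGen_flag h hk

theorem kerSub_commute {k o : G} (hk : k ∈ kerSub D O A) (ho : o ∈ O) : Commute k o := by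
  have : kerSub D O A ≤ Subgroup.centralizer ({o} : Set G) := by
    rw [kerSub, Subgroup.closure_le]
    rintro g (⟨x, hx, y, hy, rfl⟩ | ⟨A', hA', -, x, hx, y, hy, rfl⟩)
    · exact mem_cent ((hF.commute_octad h hx ho).mul_left (hF.commute_octad h hy ho)).symm
    · have hF' : IsFlag D O A' := ⟨hF.oct, hA'⟩
      exact mem_cent ((hF'.commute_octad h hx.1 ho).mul_left (hF'.commute_octad h hy.1 ho)).symm
  exact Subgroup.mem_centralizer_singleton_iff.mp (this hk)

omit h in
theorem pair_mem {x y : G} (hx : x ∈ A) (hy : y ∈ A) : x * y ∈ kerSub D O A :=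
  Subgroup.subset_closure (Or.inl ⟨x, hx, y, hy, rfl⟩)

end IsFlag

/-! ### words -/

section Words

variable {a b c : G} {K : Type*} [Field K] [Fintype K] {hK : Fintype.card K = 4}
  (t : Tri D a b c K hK) {P Q : Fin 3 → Vec K} (p : Plane P Q) (ht : IsTriple D a b c)

theorem par_add {ι : Type*} [Fintype ι] (x y : ι → ZMod 2) : par (x + y) = par x + par y := by
  simp [par, Finset.sum_add_distrib]

theorem par_single {ι : Type*} [Fintype ι] [DecidableEq ι] (i : ι) :
    par (Pi.single i (1 : ZMod 2)) = 1 := by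
  simp [par]

theorem W_congr {P' Q' : Fin 3 → Vec K} (p' : Plane P' Q') {x : Fin 3 ⊕ Fin 21 → ZMod 2}
    (hx : ∀ i, x i ≠ 0 → fA (P := P) t i = fA (P := P') t i) : W p t ht x = W p' t ht x := by
  unfold W wd
  refine Finset.noncommProd_congr rfl (fun i _ => ?_) _
  by_cases q : x i = 0
  · rw [q, ZMod.val_zero, pow_zero, pow_zero]
  · rw [hx i q]

theorem closure_pairs_word (hcore : Core D) {g : G}
    (hg : g ∈ Subgroup.closure (pairs (PA t P))) :
    ∃ x, par x = 0 ∧ g = W p t ht x := by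
  induction hg using Subgroup.closure_induction with
  | mem g hg =>
    obtain ⟨_, ⟨i, rfl⟩, _, ⟨j, rfl⟩, rfl⟩ := hg
    refine ⟨Pi.single i 1 + Pi.single j 1, ?_, ?_⟩
    · rw [par_add, par_single, par_single]; decide
    · rw [W_add p t hcore ht, W_single, W_single]
  | one => exact ⟨0, by simp [par], wd_zero.symm⟩
  | mul g k _ _ hg hk =>
    obtain ⟨x, hx, rfl⟩ := hg
    obtain ⟨y, hy, rfl⟩ := hk
    exact ⟨x + y, by rw [par_add, hx, hy, add_zero], (W_add p t hcore ht x y).symm⟩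
  | inv g _ hg =>
    obtain ⟨x, hx, rfl⟩ := hg
    exact ⟨x, hx, inv_eq_of_mul_eq_one_left (wd_sq (fA_sq p t hcore ht) x)⟩

theorem tvs_word {γ : ↥(Cfsg.SU 6 K 2)} (hγ : γ ∈ Subgroup.closure (p.tvs hK)) :
    ∃ S, γ = wS (hK := hK) p S := by
  induction hγ using Subgroup.closure_induction with
  | mem g hg =>
    obtain ⟨v, hv, hvP, rfl⟩ := hg
    obtain ⟨k, r, hr⟩ := pv_cover (hK := hK) p hv hvP
    refine ⟨Pi.single k 1, ?_⟩
    rw [wS, wd_single, hr, tv_smul hK (fun q => hv.1 (by rw [hr, q, zero_smul]))]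
  | one => exact ⟨0, wd_zero.symm⟩
  | mul g k _ _ hg hk =>
    obtain ⟨x, rfl⟩ := hg
    obtain ⟨y, rfl⟩ := hk
    exact ⟨x + y, (wd_add (fun k => tv_mul_self hK _) x y).symm⟩
  | inv g _ hg =>
    obtain ⟨x, rfl⟩ := hg
    exact ⟨x, inv_eq_of_mul_eq_one_left (wS_sq (hK := hK) p x)⟩

include ht in
/-- what fixes the plane is a word -/
theorem exists_word_of_fix (hcore : Core D) {g : ↥(C3 a b c)} {γ : ↥(Cfsg.SU 6 K 2)}
    (hg : t.ψ g = QuotientGroup.mk γ) (hfix : p.Fix γ) : ∃ x, (g : G) = W p t ht x := by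
  obtain ⟨S, hS⟩ := tvs_word p (p.closure_tvs hK hfix)
  set g0 : ↥(C3 a b c) := ⟨_, W_mem_C3 p t ht (Sum.elim 0 S)⟩ with hg0
  have h0 : t.ψ g0 = t.ψ g := by
    rw [hg0, psi_W p t hcore ht, hg, hS]; rfl
  obtain ⟨δ, hδ⟩ := t.ker_word hcore ht (triple_comm ht) (x := g * g0⁻¹) (by
    rw [map_mul, map_inv, h0, mul_inv_cancel])
  have hw : wd ![a, b, c] (triple_comm ht) δ ∈ Subgroup.closure (Set.range (fA (P := P) t)) :=
    mem_closure_wd δ fun i _ => Subgroup.subset_closure ⟨Sum.inl i, rfl⟩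
  have hW : W p t ht (Sum.elim 0 S) ∈ Subgroup.closure (Set.range (fA (P := P) t)) :=
    mem_closure_wd _ fun i _ => Subgroup.subset_closure ⟨i, rfl⟩
  have hmem : (g : G) ∈ Subgroup.closure (Set.range (fA (P := P) t)) := by
    have := mul_mem hw hW
    rwa [← hδ, Subgroup.coe_mul, Subgroup.coe_inv, hg0, inv_mul_cancel_right] at this
  revert hmem
  generalize (g : G) = y
  intro hmem
  induction hmem using Subgroup.closure_induction with
  | mem y hy => obtain ⟨i, rfl⟩ := hy; exact ⟨_, (W_single p t ht i).symm⟩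
  | one => exact ⟨0, wd_zero.symm⟩
  | mul g k _ _ hg hk =>
    obtain ⟨x, rfl⟩ := hg
    obtain ⟨y, rfl⟩ := hk
    exact ⟨x + y, (W_add p t hcore ht x y).symm⟩
  | inv g _ hg =>
    obtain ⟨x, rfl⟩ := hg
    exact ⟨x, inv_eq_of_mul_eq_one_left (wd_sq (fA_sq p t hcore ht) x)⟩

end Words

/-! ### the determinant -/

section Det

variable {K : Type*} [Field K] [Fintype K] {hK : Fintype.card K = 4} {u v w e f : Vec K}

include hK in
/-- the scalar on the third vector of the plane is one -/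
theorem frame_det (fr : Frame u v w e f) {γ : ↥(Cfsg.SU 6 K 2)} (gu : act γ u = u) (gv : act γ v = v)
    {α β ν : K} (ge : act γ e = α • u + β • v + ν • e) : ν = 1 := by
  have z := fun {p q : Vec K} (e : hb p q = 0) => (hb_eq_zero_comm hK).mp e
  obtain ⟨Q, p, -⟩ := frame_plane (hK := hK) fr
  set g0 := Q 0 with hg0
  have q0u : hb g0 u = 1 := by simpa using p.dual 0 0
  have q0v : hb g0 v = 0 := by simpa using p.dual 0 1
  have q0e : hb g0 e = 0 := by simpa using p.dual 0 2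
  have fu : hb (act γ f) u = 0 := by
    have := act_hb γ f u
    rwa [gu, z fr.pf2] at this
  have fv : hb (act γ f) v = 0 := by
    have := act_hb γ f v
    rwa [gv, z fr.ef] at this
  have wu : hb (act γ w) u = 0 := by
    have := act_hb γ w u
    rwa [gu, z fr.pf1] at this
  have wv : hb (act γ w) v = 1 := by
    have := act_hb γ w v
    rwa [gv, fr.fe1 hK] at this
  have qu : hb (act γ g0 + g0) u = 0 := by
    have := act_hb γ g0 u
    rw [gu, q0u] at this
    rw [hb_add_left, this, q0u, add_self_zero hK]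
  have hμ : ν ^ 2 * hb (act γ f) e = 1 := by
    have := act_hb γ f e
    rw [ge, hb_add_right hK, hb_add_right hK, hb_smul_right, hb_smul_right, hb_smul_right, fu, fv,
      fr.fe2 hK] at this
    simpa using this
  obtain ⟨n1, e1⟩ := fr.coord hK fu
  obtain ⟨n2, e2⟩ := fr.coord hK wu
  obtain ⟨n3, e3⟩ := fr.coord hK qu
  rw [fv, zero_smul, add_zero] at e1
  rw [wv, one_smul] at e2
  set μ := hb (act γ f) e
  set a1 := hb (act γ f) w
  set c1 := hb (act γ f) f
  set a2 := hb (act γ w) w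
  set c2 := hb (act γ w) f
  set d2 := hb (act γ w) e
  set a3 := hb (act γ g0 + g0) w
  set b3 := hb (act γ g0 + g0) v
  set c3 := hb (act γ g0 + g0) f
  set d3 := hb (act γ g0 + g0) e
  have e3' : act γ g0 = n3 • u + a3 • v + b3 • w + c3 • e + d3 • f + g0 := by
    rw [← e3, add_assoc, vec_add_self hK, add_zero]
  let T : Matrix (Fin 6) (Fin 6) K := ![![1, 0, 0, 0, 0, 0], ![0, 1, 0, 0, 0, 0], ![α, β, ν, 0, 0, 0],
    ![n1, a1, c1, μ, 0, 0], ![n2, a2, c2, d2, 1, 0], ![n3, a3, c3, d3, b3, 1]]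
  let B : Matrix (Fin 6) (Fin 6) K := ![u, v, e, f, w, g0]
  let M : Matrix (Fin 6) (Fin 6) K := ((γ : Matrix.SpecialLinearGroup (Fin 6) K) : Matrix _ _ K)
  have rows : ∀ i, act γ (B i) = ∑ j, T i j • B j := by
    intro i
    fin_cases i <;>
      simp only [T, B, Fin.sum_univ_six, Fin.reduceFinMk, Fin.zero_eta, Fin.mk_one, Fin.isValue,
        Matrix.cons_val, Matrix.cons_val_zero, Matrix.cons_val_one, Matrix.head_cons, zero_smul,
        one_smul, add_zero, zero_add]
    · exact gu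
    · exact gv
    · exact ge
    · rw [e1]
    · rw [e2]; abel
    · rw [e3']; abel
  have hmat : B * M.transpose = T * B := by
    ext i j
    have := congrFun (rows i) j
    rw [Finset.sum_apply] at this
    simp only [Matrix.mul_apply, Matrix.transpose_apply]
    calc ∑ k, B i k * M j k = act γ (B i) j := Finset.sum_congr rfl fun k _ => mul_comm _ _
      _ = ∑ k, (T i k • B k) j := this
      _ = _ := rfl
  have hli : LinearIndependent K B.row := by
    rw [Fintype.linearIndependent_iff]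
    intro g hg
    have eq : ∀ y, g 0 * hb u y + g 1 * hb v y + g 2 * hb e y + g 3 * hb f y + g 4 * hb w y +
        g 5 * hb g0 y = 0 := fun y => by
      have := congrArg (fun x => hb x y) hg
      rw [hb_zero_left, sum_hb_left, Fin.sum_univ_six] at this
      exact this
    have k5 : g 5 = 0 := by
      have := eq u
      simpa [fr.hP.2, z fr.pe1, z fr.pe2, z fr.pf2, z fr.pf1, q0u] using this
    have k4 : g 4 = 0 := by
      have := eq v
      simpa [fr.e11, fr.pe1, z fr.ee, z fr.ef, fr.fe1 hK, q0v] using this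
    have k3 : g 3 = 0 := by
      have := eq e
      simpa [fr.e22, fr.pe2, fr.ee, fr.fe, fr.fe2 hK, q0e] using this
    have k2 : g 2 = 0 := by
      have := eq f
      simpa [fr.f22, fr.pf2, fr.ef, fr.ff, fr.ef2, k5] using this
    have k1 : g 1 = 0 := by
      have := eq w
      simpa [fr.f11, fr.pf1, fr.ef1, z fr.fe, z fr.ff, k5] using this
    have k0 : g 0 = 0 := by
      rw [Fin.sum_univ_six, k1, k2, k3, k4, k5] at hg
      simp only [zero_smul, add_zero] at hg
      exact (smul_eq_zero.mp hg).resolve_right fr.hP.1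
    intro i; fin_cases i <;> assumption
  have hB : B.det ≠ 0 :=
    ((Matrix.isUnit_iff_isUnit_det B).mp (Matrix.linearIndependent_rows_iff_isUnit.mp hli)).ne_zero
  have hM : M.det = 1 := (γ : Matrix.SpecialLinearGroup (Fin 6) K).2
  have hdet := congrArg Matrix.det hmat
  rw [Matrix.det_mul, Matrix.det_mul, Matrix.det_transpose, hM, mul_one] at hdet
  have hT : T.det = ν * μ := by
    rw [Matrix.det_of_isLowerTriangular T (by
      intro i j hij
      fin_cases i <;> fin_cases j <;> first | rfl | exact absurd hij (by decide))]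
    simp only [T, Fin.prod_univ_six, Matrix.cons_val, Matrix.cons_val_zero, Matrix.cons_val_one,
      Matrix.head_cons, one_mul, mul_one]
  rw [hT] at hdet
  have h1 : ν * μ = 1 := mul_right_cancel₀ hB (by rw [one_mul]; exact hdet.symm)
  have h2 : ν * (ν * μ) = 1 := by linear_combination hμ
  rwa [h1, mul_one] at h2

end Det

/-! ### in coordinates -/

namespace Coord

variable [Finite G] (h : Hyp D) {O A : Set G} {a b c : G} {K : Type*} [Field K] [Fintype K]
  {hK : Fintype.card K = 4} (C : Coord D O A a b c K hK)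

include h C

theorem flag : IsFlag D O A := by
  obtain ⟨t, ht, u, v, w, e, f, fr, rfl, rfl⟩ := C
  obtain ⟨Q, p, -⟩ := frame_plane (hK := hK) fr
  exact ⟨octSet_isOctad p t h.core ht h.ind, PA_mem_planes t ht fr⟩

omit [Finite G] h in
theorem memO {y : G} : y ∈ O ↔ y ∈ octSet C.t ![C.u, C.v, C.e] := Set.ext_iff.mp C.hO y

omit [Finite G] h in
theorem memA {y : G} : y ∈ A ↔ y ∈ PA C.t ![C.u, C.v, C.e] := Set.ext_iff.mp C.hA y

omit [Finite G] h in
theorem triple_mem : a ∈ O ∧ b ∈ O ∧ c ∈ O := by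
  simp only [C.memO]; exact triple_mem_octSet C.t _

omit [Finite G] h in
theorem pt_span {x : Vec K} (hx : IsPt x) (h : C.t.sp.pt x ∈ A) :
    x ∈ Submodule.span K (Set.range ![C.u, C.v, C.e]) := by
  obtain ⟨Q, p, -⟩ := frame_plane (hK := hK) C.fr
  obtain ⟨i, hi⟩ := C.memA.mp h
  rcases i with i | k
  · exfalso
    have hm := C.t.sp.mem hx
    fin_cases i
    exacts [hm.1.1.2.1 hi.symm, hm.1.2.2.1 hi.symm, hm.2.2.1 hi.symm]
  · obtain ⟨r, rfl⟩ := (C.t.sp.same (pv_pt (hK := hK) p k) hx).mp hi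
    exact Submodule.smul_mem _ _ (pv_span k)

omit [Finite G] h in
theorem other_plane : PA C.t ![C.u, C.v, C.f] ∈ Planes D O ∧ PA C.t ![C.u, C.v, C.f] ≠ A := by
  obtain ⟨t, ht, u, v, w, e, f, fr, rfl, rfl⟩ := C
  have f1 := frame_swap (hK := hK) fr
  obtain ⟨Q, p, -⟩ := frame_plane (hK := hK) f1
  refine ⟨?_, fun q => ?_⟩
  · show PA t ![u, v, f] ∈ Planes D (octSet t ![u, v, e])
    rw [← octSet_congr t fr f1]; exact PA_mem_planes t ht f1
  · exact pt_notMem_PA t fr (frame_pt_e f1) (by rw [fr.fe2 hK]; exact one_ne_zero)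
      (q ▸ pt_mem_PA t p (frame_pt_e f1) (Submodule.subset_span ⟨2, rfl⟩))

/-- the members are outside the even part -/
theorem notMem_kerSub : a ∉ kerSub D O A := by
  have hF := C.flag h
  obtain ⟨hA2, hne2⟩ := C.other_plane
  set A2 := PA C.t ![C.u, C.v, C.f] with hA2def
  have hF2 : IsFlag D O A2 := ⟨hF.oct, hA2⟩
  set N1 := Subgroup.closure (pairs A) with hN1
  set S := Subgroup.closure (pairs (A2 \ O)) with hS
  have hSflag : S ≤ flagSub O A := (Subgroup.closure_le _).mpr fun k hk =>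
    hF.kerGen_flag h (Or.inr ⟨A2, hA2, hne2, hk⟩)
  have hnorm : S ≤ Subgroup.normalizer (N1 : Set G) := fun g hg => by
    have hg' := hSflag hg
    rw [Subgroup.mem_normalizer_iff]
    intro k
    constructor
    · exact closure_conj_mem fun x hx => pairs_conj hg'.2 hx
    · intro hk
      have := closure_conj_mem (g := g⁻¹) (fun x hx => pairs_conj (inv_mem hg').2 hx) hk
      rwa [show g⁻¹ * (g * k * g⁻¹) * g⁻¹⁻¹ = k by group] at this
  have hle : kerSub D O A ≤ S ⊔ N1 := by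
    rw [kerSub, Subgroup.closure_le]
    rintro k (hk | ⟨A', hA', hne, hk⟩)
    · exact Subgroup.mem_sup_right (Subgroup.subset_closure hk)
    by_cases q : A' = A2
    · subst q
      exact Subgroup.mem_sup_left (Subgroup.subset_closure hk)
    obtain ⟨x, hx, hxO⟩ := hF.exists_outside
    have hxx := h.core.tt.sq x (hF.subset_mem hx)
    have hsw : conjSet x A' = A2 :=
      (IsFlag.mk hF.oct hA').swap_plane h hF.plane hA2 hne.symm (Ne.symm q) hne2 hx hxO
    obtain ⟨y, hy, y', hy', rfl⟩ := hk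
    have hxfix := (hF.plane_le h hx).1
    have mv : ∀ {z : G}, z ∈ A' \ O → x * z * x ∈ A2 \ O := fun {z} hz => by
      have e : x * z * x = x * z * x⁻¹ := by rw [h.core.tt.inv_eq (hF.subset_mem hx)]
      rw [e]
      refine ⟨hsw ▸ ⟨z, hz.1, rfl⟩, fun q => hz.2 ?_⟩
      rw [← hxfix, mem_conjSet] at q
      rwa [show x⁻¹ * (x * z * x⁻¹) * x = z by group] at q
    set m := x * y * x * (x * y' * x) with hm
    have hmS : m ∈ S := Subgroup.subset_closure ⟨_, mv hy, _, mv hy', rfl⟩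
    have hk : y * y' = m * (m⁻¹ * x * m * x) := by
      have e : m = x * (y * y') * x := by
        rw [hm]; simp only [mul_assoc]; rw [h.core.tt.cancel (hF.subset_mem hx)]
      calc y * y' = x * x * (y * y') * (x * x) := by rw [hxx, one_mul, mul_one]
        _ = x * m * x := by rw [e]; group
        _ = m * (m⁻¹ * x * m * x) := by group
    rw [hk]
    refine mul_mem (Subgroup.mem_sup_left hmS) (Subgroup.mem_sup_right (Subgroup.subset_closure ?_))
    refine ⟨m⁻¹ * x * m, ?_, x, hx, rfl⟩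
    have hmA := (inv_mem (hSflag hmS)).2
    rw [← hmA]
    exact ⟨x, hx, by group⟩
  intro ha
  have h2 : a ∈ (↑(S ⊔ N1) : Set G) := hle ha
  rw [Subgroup.coe_mul_of_left_le_normalizer_right S N1 hnorm] at h2
  obtain ⟨s, hs, n, hn, he⟩ := h2
  obtain ⟨Q, p, hQ⟩ := frame_plane (hK := hK) C.fr
  obtain ⟨Q', p', -⟩ := frame_plane (hK := hK) (frame_swap (hK := hK) C.fr)
  have hn' : n ∈ Subgroup.closure (pairs (PA C.t ![C.u, C.v, C.e])) :=
    Subgroup.closure_mono (show pairs A ⊆ pairs (PA C.t ![C.u, C.v, C.e]) from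
      fun g ⟨x, hx, z, hz, e⟩ => ⟨x, C.memA.mp hx, z, C.memA.mp hz, e⟩) hn
  obtain ⟨y, hy, rfl⟩ := closure_pairs_word C.t p C.ht h.core hn'
  have hs2 : s ∈ Subgroup.closure (pairs A2) :=
    Subgroup.closure_mono (show pairs (A2 \ O) ⊆ pairs A2 from
      fun g ⟨x, hx, z, hz, e⟩ => ⟨x, hx.1, z, hz.1, e⟩) hs
  obtain ⟨x', hx', rfl⟩ := closure_pairs_word C.t p' C.ht h.core hs2
  set X := (Pi.single (Sum.inl 0) 1 : Fin 3 ⊕ Fin 21 → ZMod 2) + y with hX
  have hXs : W p C.t C.ht X = W p' C.t C.ht x' := by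
    rw [hX, W_add p C.t h.core C.ht, W_single]
    show a * W p C.t C.ht y = _
    nth_rewrite 1 [← he]
    show W p' C.t C.ht x' * W p C.t C.ht y * W p C.t C.ht y = _
    rw [mul_assoc, show W p C.t C.ht y * W p C.t C.ht y = 1 from wd_sq (fA_sq p C.t h.core C.ht) y,
      mul_one]
  set γ := wS (hK := hK) p' (fun k => x' (Sum.inr k)) with hγ
  have hψ : C.t.ψ ⟨_, W_mem_C3 p C.t C.ht X⟩ = QuotientGroup.mk γ := by
    rw [hγ, ← psi_W p' C.t h.core C.ht]
    exact congrArg C.t.ψ (Subtype.ext hXs)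
  have hfix : act γ (Q 2) = Q 2 := by
    rw [hQ]
    exact wS_fix (hK := hK) p' _ 2
  obtain ⟨y0, hy0, hp0, hline⟩ := reduce_fix p C.t h.core C.ht h.ind X (wS_sq (hK := hK) p' _) hψ hfix
  have hW : W p C.t C.ht y0 = W p' C.t C.ht y0 := by
    refine W_congr C.t p C.ht p' fun i hi => ?_
    rcases i with i | k
    · rfl
    · exact congrArg C.t.sp.pt (pv_line (P := ![C.u, C.v, C.e]) (P' := ![C.u, C.v, C.f]) hK rfl rfl
        (hline k hi))
  have hpar := parity_eq p' C.t h.core C.ht h.ind (hW.symm.trans (hy0.trans hXs))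
  rw [hp0, hX, par_add, par_single, hy, hx', add_zero] at hpar
  exact one_ne_zero hpar

/-- the pointwise stabiliser of the octad in the stabiliser of the flag -/
theorem mem_sup_of_fix {g : G} (hg : g ∈ flagSub O A) (hfix : ∀ o ∈ O, Commute g o) :
    g ∈ kerSub D O A ⊔ Subgroup.zpowers a := by
  have hF := C.flag h
  obtain ⟨oa, ob, oc⟩ := C.triple_mem
  set g3 : ↥(C3 a b c) := ⟨g, mem_C3_iff.mpr ⟨hfix a oa, hfix b ob, hfix c oc⟩⟩
  obtain ⟨γ0, hγ0⟩ := QuotientGroup.mk_surjective (C.t.ψ g3)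
  have hu := C.fr.hP
  have hv := frame_pt_v C.fr
  have he := frame_pt_e C.fr
  have onO : ∀ {x : Vec K}, IsPt x → x ∈ Submodule.span K (Set.range ![C.u, C.v]) →
      ∃ r : K, r ≠ 0 ∧ act γ0 x = r • x := by
    intro x hx hxs
    have ho : C.t.sp.pt x ∈ O :=
      C.memO.mpr ((mem_octSet C.t C.fr).mpr (Or.inr (Or.inr (Or.inr ⟨x, hx, hxs, rfl⟩))))
    have e := C.t.conj_pt h.core g3 hγ0.symm hx
    rw [(hfix _ ho).eq, mul_inv_cancel_right] at e
    obtain ⟨r, hr⟩ := (C.t.sp.same hx (act_pt γ0 hx)).mp e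
    exact ⟨r, fun q => (act_pt γ0 hx).1 (by rw [hr, q, zero_smul]), hr⟩
  have su : C.u ∈ Submodule.span K (Set.range ![C.u, C.v]) := Submodule.subset_span ⟨0, rfl⟩
  have sv : C.v ∈ Submodule.span K (Set.range ![C.u, C.v]) := Submodule.subset_span ⟨1, rfl⟩
  have hnsame : ¬ SamePt C.u C.v := fun ⟨r, hr⟩ => by
    have := C.fr.ef1
    rw [hr, hb_smul_left, C.fr.pf1, mul_zero] at this
    exact zero_ne_one this
  obtain ⟨r, hr0, hru⟩ := onO hu su
  obtain ⟨s, -, hsv⟩ := onO hv sv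
  have huv : IsPt (C.u + C.v) := by simpa using isPt_line hK hu hv C.fr.pe1 hnsame 1
  obtain ⟨m, -, hm⟩ := onO huv (Submodule.add_mem _ su sv)
  have hsr : s = r := by
    have e := hm
    rw [act_add, hru, hsv, smul_add] at e
    have e1 : hb (r • C.u + s • C.v) C.w = hb (m • C.u + m • C.v) C.w := by rw [e]
    simp only [hb_add_left, hb_smul_left, C.fr.pf1, C.fr.ef1, mul_zero, mul_one, zero_add] at e1
    rw [e1] at e ⊢
    have e2 : r • C.u = m • C.u := add_right_cancel e
    exact (smul_left_injective K hu.1 e2).symm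
  obtain ⟨z, hzc, hz⟩ := exists_scalar hK (inv_ne_zero hr0)
  set γ := γ0 * z with hγ
  have hγψ : C.t.ψ g3 = QuotientGroup.mk γ := by
    rw [hγ, QuotientGroup.mk_mul, (QuotientGroup.eq_one_iff z).mpr hzc, mul_one, hγ0]
  have gu : act γ C.u = C.u := by
    rw [hγ, act_mul, hz, act_smul, hru, smul_smul, inv_mul_cancel₀ hr0, one_smul]
  have gv : act γ C.v = C.v := by
    rw [hγ, act_mul, hz, act_smul, hsv, hsr, smul_smul, inv_mul_cancel₀ hr0, one_smul]
  have hge : act γ C.e ∈ Submodule.span K (Set.range ![C.u, C.v, C.e]) := by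
    refine C.pt_span (act_pt γ he) ?_
    rw [← C.t.conj_pt h.core g3 hγψ he]
    refine (Set.ext_iff.mp hg.2 _).mp ?_
    refine ⟨_, ?_, rfl⟩
    obtain ⟨Q, p, -⟩ := frame_plane (hK := hK) C.fr
    exact C.memA.mpr (pt_mem_PA C.t p he (Submodule.subset_span ⟨2, rfl⟩))
  obtain ⟨k, hk⟩ := (Submodule.mem_span_range_iff_exists_fun K).mp hge
  have hk' : act γ C.e = k 0 • C.u + k 1 • C.v + k 2 • C.e := by
    rw [← hk, Fin.sum_univ_three]; rfl
  have hν := frame_det (hK := hK) C.fr gu gv hk'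
  rw [hν, one_smul] at hk'
  set mm := k 0 • C.u + k 1 • C.v with hmm
  have zz := fun {p q : Vec K} (e : hb p q = 0) => (hb_eq_zero_comm hK).mp e
  have mf : hb mm C.f = 0 := by simp [hmm, hb_add_left, hb_smul_left, C.fr.pf2, C.fr.ef]
  have mu : hb mm C.u = 0 := by simp [hmm, hb_add_left, hb_smul_left, C.fr.hP.2, zz C.fr.pe1]
  have mv : hb mm C.v = 0 := by simp [hmm, hb_add_left, hb_smul_left, C.fr.pe1, C.fr.e11]
  have me : hb mm C.e = 0 := by simp [hmm, hb_add_left, hb_smul_left, C.fr.pe2, C.fr.ee]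
  have mmi : hb mm mm = 0 := by
    nth_rewrite 2 [hmm]
    simp [hb_add_right hK, hb_smul_right, mu, mv]
  clear_value mm
  have hff : IsPt C.f := frame_pt_e (frame_swap (hK := hK) C.fr)
  have hfm : IsPt (C.f + mm) := by
    refine ⟨fun q => ?_, ?_⟩
    · have : hb (C.f + mm) C.e = 1 := by rw [hb_add_left, C.fr.fe2 hK, me, add_zero]
      rw [q, hb_zero_left] at this
      exact zero_ne_one this
    · rw [hb_add_left, hb_add_right hK, hb_add_right hK, C.fr.f22, mf, zz mf, mmi]; simp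
  set sg : G := C.t.sp.pt C.f * C.t.sp.pt (C.f + mm) with hsg
  set σ := tv hK C.f * tv hK (C.f + mm) with hσ
  have tfe : ∀ x, hb x C.f = 0 → hb x mm = 0 → act σ x = x := fun x h1 h2 => by
    rw [hσ, act_mul, tv_act hK hfm.2, hb_add_right hK, h1, h2, add_zero, zero_smul, add_zero,
      tv_act hK hff.2, h1, zero_smul, add_zero]
  have σu : act σ C.u = C.u := tfe _ C.fr.pf2 (zz mu)
  have σv : act σ C.v = C.v := tfe _ C.fr.ef (zz mv)
  have σe : act σ C.e = C.e + mm := by
    rw [hσ, act_mul, tv_act hK hfm.2, hb_add_right hK, C.fr.ef2, zz me, add_zero, one_smul,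
      tv_act hK hff.2, hb_add_left, hb_add_left, C.fr.ef2, C.fr.f22, mf, add_zero, add_zero, one_smul]
    rw [show C.e + (C.f + mm) + C.f = C.e + mm + (C.f + C.f) by abel, vec_add_self hK, add_zero]
  obtain ⟨Q, p, -⟩ := frame_plane (hK := hK) C.fr
  have hfix' : p.Fix (σ⁻¹ * γ) := by
    intro i
    rw [act_mul]
    fin_cases i
    · show act σ⁻¹ (act γ C.u) = C.u
      rw [gu]; nth_rewrite 1 [← σu]; exact act_inv_left σ _
    · show act σ⁻¹ (act γ C.v) = C.v
      rw [gv]; nth_rewrite 1 [← σv]; exact act_inv_left σ _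
    · show act σ⁻¹ (act γ C.e) = C.e
      rw [hk', add_comm mm, ← σe]
      exact act_inv_left σ _
  have hsC : sg ∈ C3 a b c :=
    mul_mem (T3_mem_C3 (C.t.sp.mem hff)) (T3_mem_C3 (C.t.sp.mem hfm))
  have hψs : C.t.ψ ⟨sg, hsC⟩ = QuotientGroup.mk σ := by
    rw [hσ, QuotientGroup.mk_mul]
    show C.t.ψ (⟨_, T3_mem_C3 (C.t.sp.mem hff)⟩ * ⟨_, T3_mem_C3 (C.t.sp.mem hfm)⟩) = _
    rw [map_mul, C.t.eq hff, C.t.eq hfm]
    rfl
  obtain ⟨x, hx⟩ := exists_word_of_fix C.t p C.ht h.core (g := (⟨sg, hsC⟩ : ↥(C3 a b c))⁻¹ * g3)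
    (γ := σ⁻¹ * γ) (by rw [map_mul, map_inv, hψs, hγψ]; rfl) hfix'
  have hgs : g = sg * W p C.t C.ht x := by
    rw [← hx]; simp [g3]
  rw [hgs]
  refine mul_mem (Subgroup.mem_sup_left ?_) ?_
  · obtain ⟨hA2, hne2⟩ := C.other_plane
    have f1 := frame_swap (hK := hK) C.fr
    obtain ⟨Q', p', -⟩ := frame_plane (hK := hK) f1
    have out : ∀ {y : Vec K}, IsPt y → hb y C.e ≠ 0 → C.t.sp.pt y ∉ O := fun {y} hy hye q => by
      have q' := C.memO.mp q
      rw [← octSet_congr C.t C.fr f1] at q'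
      exact pt_notMem_octSet C.t f1 C.ht hy hye q'
    refine Subgroup.subset_closure (Or.inr ⟨_, hA2, hne2, _, ⟨?_, ?_⟩, _, ⟨?_, ?_⟩, rfl⟩)
    · exact pt_mem_PA C.t p' hff (Submodule.subset_span ⟨2, rfl⟩)
    · exact out hff (by rw [C.fr.fe2 hK]; exact one_ne_zero)
    · refine pt_mem_PA C.t p' hfm (Submodule.add_mem _ (Submodule.subset_span ⟨2, rfl⟩) ?_)
      rw [hmm]
      exact Submodule.add_mem _ (Submodule.smul_mem _ _ (Submodule.subset_span ⟨0, rfl⟩))
        (Submodule.smul_mem _ _ (Submodule.subset_span ⟨1, rfl⟩))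
    · exact out hfm (by rw [hb_add_left, C.fr.fe2 hK, me, add_zero]; exact one_ne_zero)
  · refine mem_closure_wd x fun i _ => ?_
    have hiA : fA (P := ![C.u, C.v, C.e]) C.t i ∈ A := (Set.ext_iff.mp C.hA _).mpr ⟨i, rfl⟩
    have := mul_mem (Subgroup.mem_sup_left (T := Subgroup.zpowers a)
      (hF.pair_mem hiA (hF.octad_subset oa))) (Subgroup.mem_sup_right (Subgroup.mem_zpowers a))
    rwa [mul_assoc, h.core.tt.sq a C.ht.ha, mul_one] at this

end Coord

end Cfsg.Agent.H64.M24Triple
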