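import Cfsg.Agent.H64.M24Triple.Kernel
import Cfsg.Agent.H99.AltCarmichael

/-!
The stabiliser of a flag on the eight points of the octad: the alternating group, split over the even
words, so that there is a character of order two which is nontrivial on the members.
-/

set_option autoImplicit false

namespace Cfsg.Agent.H64.M24Triple

open Cfsg.Agent.H93 Equiv

variable {G : Type*} [Group G] {D : Set G}

/-- eight points -/
abbrev M8 : Type := Fin 2 ⊕ Fin 6

namespace Coord

variable [Finite G] (h : Hyp D) {O A : Set G} {a b c : G} {K : Type*} [Field K] [Fintype K]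
  {hK : Fintype.card K = 4} (C : Coord D O A a b c K hK)

omit [Finite G] in
theorem line_mem : C.t.sp.pt C.u ∈ O ∧ C.t.sp.pt C.v ∈ O :=
  ⟨C.memO.mpr (line_mem_octSet C.t C.fr).1, C.memO.mpr (line_mem_octSet C.t C.fr).2⟩

omit [Finite G] in
/-- a further point of the octad is on the line -/
theorem point_coord {y : G} (hy : y ∈ O) (ha : y ≠ a) (hb' : y ≠ b) (hc : y ≠ c)
    (hu : y ≠ C.t.sp.pt C.u) :
    ∃ l : K, IsPt (l • C.u + C.v) ∧ y = C.t.sp.pt (l • C.u + C.v) := by
  rcases (mem_octSet C.t C.fr).mp (C.memO.mp hy) with q | q | q | ⟨x, hx, hxs, rfl⟩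
  · exact absurd q ha
  · exact absurd q hb'
  · exact absurd q hc
  obtain ⟨g, hg⟩ := (Submodule.mem_span_range_iff_exists_fun K).mp hxs
  simp only [Fin.sum_univ_two, Matrix.cons_val_zero, Matrix.cons_val_one] at hg
  have h1 : g 1 ≠ 0 := fun q => by
    rw [q, zero_smul, add_zero] at hg
    exact hu ((C.t.sp.same hx C.fr.hP).mpr ⟨(g 0)⁻¹, by
      rw [← hg, smul_smul, inv_mul_cancel₀ fun e => hx.1 (by rw [← hg, e, zero_smul]), one_smul]⟩)
  obtain ⟨hp, e⟩ := C.t.sp.smul_pt (inv_ne_zero h1) hx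
  refine ⟨(g 1)⁻¹ * g 0, ?_⟩
  have e2 : (g 1)⁻¹ • x = ((g 1)⁻¹ * g 0) • C.u + C.v := by
    rw [← hg, smul_add, smul_smul, smul_smul, inv_mul_cancel₀ h1, one_smul]
  rw [← e2]
  exact ⟨hp, e.symm⟩

include h

/-- a double transposition fixing the triple and the first point -/
theorem exists_double {β : G} (hβ : β ∈ O) (ha : β ≠ a) (hb' : β ≠ b) (hc : β ≠ c)
    (hu : β ≠ C.t.sp.pt C.u) (hv : β ≠ C.t.sp.pt C.v) :
    ∃ g ∈ flagSub O A, g * g = 1 ∧ Commute g a ∧ Commute g b ∧ Commute g c ∧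
      Commute g (C.t.sp.pt C.u) ∧ g * C.t.sp.pt C.v * g⁻¹ = β ∧
      ∀ y ∈ O, Commute g y → y = a ∨ y = b ∨ y = c ∨ y = C.t.sp.pt C.u := by
  have hF := C.flag h
  obtain ⟨m, hm, rfl⟩ := C.point_coord hβ ha hb' hc hu
  have hm0 : m ≠ 0 := fun q => hv (by rw [q, zero_smul, zero_add])
  have zz := fun {p q : Vec K} (e : hb p q = 0) => (hb_eq_zero_comm hK).mp e
  have fr := C.fr
  have hw : IsPt C.w := ⟨fun q => one_ne_zero (by rw [← fr.fe1 hK, q, hb_zero_left]), fr.f11⟩
  have hwm : IsPt (C.w + m • C.u) := by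
    refine ⟨fun q => ?_, ?_⟩
    · have : hb (C.w + m • C.u) C.v = 1 := by
        rw [hb_add_left, hb_smul_left, fr.fe1 hK, fr.pe1, mul_zero, add_zero]
      rw [q, hb_zero_left] at this
      exact zero_ne_one this
    · simp [hb_add_left, hb_add_right hK, hb_smul_left, hb_smul_right, fr.f11, fr.pf1, zz fr.pf1,
        fr.hP.2]
  set σ := tv hK C.w * tv hK (C.w + m • C.u) with hσ
  have fix : ∀ x, hb x C.w = 0 → hb x C.u = 0 → act σ x = x := fun x h1 h2 => by
    rw [hσ, act_mul, tv_act hK hwm.2, hb_add_right hK, hb_smul_right, h1, h2, mul_zero, add_zero,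
      zero_smul, add_zero, tv_act hK hw.2, h1, zero_smul, add_zero]
  have σu : act σ C.u = C.u := fix _ fr.pf1 fr.hP.2
  have σe : act σ C.e = C.e := fix _ (zz fr.fe) (zz fr.pe2)
  have σv : act σ C.v = m • C.u + C.v := by
    rw [hσ, act_mul, tv_act hK hwm.2, hb_add_right hK, hb_smul_right, fr.ef1, zz fr.pe1, mul_zero,
      add_zero, one_smul, tv_act hK hw.2, hb_add_left, hb_add_left, hb_smul_left, fr.ef1, fr.f11,
      fr.pf1, mul_zero, add_zero, add_zero, one_smul]
    rw [show C.v + (C.w + m • C.u) + C.w = m • C.u + C.v + (C.w + C.w) by abel, vec_add_self hK,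
      add_zero]
  have hgC : C.t.sp.pt C.w * C.t.sp.pt (C.w + m • C.u) ∈ C3 a b c :=
    mul_mem (T3_mem_C3 (C.t.sp.mem hw)) (T3_mem_C3 (C.t.sp.mem hwm))
  set g := C.t.sp.pt C.w * C.t.sp.pt (C.w + m • C.u) with hg
  have hψ : C.t.ψ ⟨g, hgC⟩ = QuotientGroup.mk σ := by
    rw [hσ, QuotientGroup.mk_mul]
    show C.t.ψ (⟨_, T3_mem_C3 (C.t.sp.mem hw)⟩ * ⟨_, T3_mem_C3 (C.t.sp.mem hwm)⟩) = _
    rw [map_mul, C.t.eq hw, C.t.eq hwm]
    rfl
  have conj : ∀ {x}, IsPt x → g * C.t.sp.pt x * g⁻¹ = C.t.sp.pt (act σ x) := fun hx =>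
    C.t.conj_pt h.core ⟨g, hgC⟩ hψ hx
  obtain ⟨ga, gb, gc⟩ := mem_C3_iff.mp hgC
  have hgu : g * C.t.sp.pt C.u * g⁻¹ = C.t.sp.pt C.u := by rw [conj fr.hP, σu]
  have hgv : g * C.t.sp.pt C.v * g⁻¹ = C.t.sp.pt (m • C.u + C.v) := by
    rw [conj (frame_pt_v fr), σv]
  have hsq : g * g = 1 := by
    have hc' : Commute (C.t.sp.pt C.w) (C.t.sp.pt (C.w + m • C.u)) :=
      (C.t.sp.comm hw hwm).mpr (by
        rw [hb_add_right hK, hb_smul_right, fr.f11, zz fr.pf1, mul_zero, add_zero])
    exact h.core.tt.sq_of_commute (C.t.sp.mem hw).1.1.1 (C.t.sp.mem hwm).1.1.1 hc'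
  obtain ⟨oa, ob, oc⟩ := C.triple_mem
  obtain ⟨ou, -⟩ := C.line_mem
  have hO : conjSet g O = O := by
    let x : Fin 5 → G := ![a, b, c, C.t.sp.pt C.u, C.t.sp.pt (m • C.u + C.v)]
    have hab := C.ht.hb.2.1
    have hca := C.ht.hca.2.1
    have hcb := C.ht.hcb.2.1
    have mu := C.t.sp.mem fr.hP
    have hxi : Function.Injective x := by
      intro i j e
      fin_cases i <;> fin_cases j
      all_goals first
        | rfl
        | exact absurd e ha
        | exact absurd e.symm ha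
        | exact absurd e hb'
        | exact absurd e.symm hb'
        | exact absurd e hc
        | exact absurd e.symm hc
        | exact absurd e hu
        | exact absurd e.symm hu
        | exact absurd e hab
        | exact absurd e.symm hab
        | exact absurd e hca
        | exact absurd e.symm hca
        | exact absurd e hcb
        | exact absurd e.symm hcb
        | exact absurd e mu.1.1.2.1
        | exact absurd e.symm mu.1.1.2.1
        | exact absurd e mu.1.2.2.1
        | exact absurd e.symm mu.1.2.2.1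
        | exact absurd e mu.2.2.1
        | exact absurd e.symm mu.2.2.1
    refine (hF.oct.conj h.core g).eq_of_five h.core h.ind hF.oct hxi (fun i => ?_) fun i => ?_
    · fin_cases i
      · exact ⟨a, oa, mul_inv_eq_iff_eq_mul.mpr ga.eq⟩
      · exact ⟨b, ob, mul_inv_eq_iff_eq_mul.mpr gb.eq⟩
      · exact ⟨c, oc, mul_inv_eq_iff_eq_mul.mpr gc.eq⟩
      · exact ⟨_, ou, hgu⟩
      · exact ⟨_, C.line_mem.2, hgv⟩
    · fin_cases i
      exacts [oa, ob, oc, ou, hβ]
  have he := frame_pt_e fr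
  have heA : C.t.sp.pt C.e ∈ A := by
    obtain ⟨Q, p, -⟩ := frame_plane (hK := hK) fr
    exact C.memA.mpr (pt_mem_PA C.t p he (Submodule.subset_span ⟨2, rfl⟩))
  have heO : C.t.sp.pt C.e ∉ O := fun q =>
    pt_notMem_octSet C.t fr C.ht he (by rw [fr.ef2]; exact one_ne_zero) (C.memO.mp q)
  have hA : conjSet g A = A := by
    have hA' : conjSet g A ∈ Planes D O := by
      have := conjSet_planes h.core g hF.plane
      rwa [hO] at this
    refine ((IsFlag.mk hF.oct hA').inter_eq h hF (r := C.t.sp.pt C.e) ?_ heA heO)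
    exact ⟨_, heA, by show g * C.t.sp.pt C.e * g⁻¹ = _; rw [conj he, σe]⟩
  refine ⟨g, ⟨hO, hA⟩, hsq, ga, gb, gc, mul_inv_eq_iff_eq_mul.mp hgu, hgv, fun y hy hcom => ?_⟩
  by_contra hn
  simp only [not_or] at hn
  obtain ⟨l, hl, rfl⟩ := C.point_coord hy hn.1 hn.2.1 hn.2.2.1 hn.2.2.2
  have e := conj hl
  rw [hcom.eq, mul_inv_cancel_right, act_add, act_smul, σu, σv] at e
  obtain ⟨r, hr⟩ := (C.t.sp.same hl (by rw [← σv, ← σu, ← act_smul, ← act_add]; exact act_pt σ hl)).mp e
  have e1 := congrArg (fun x => hb x C.w) hr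
  simp only [hb_add_left, hb_smul_left, fr.pf1, fr.ef1, mul_zero, zero_add] at e1
  rw [mul_one] at e1
  rw [← e1, one_smul, add_comm (m • C.u), ← add_assoc, add_eq_left] at hr
  exact hm0 ((smul_eq_zero.mp hr).resolve_right fr.hP.1)

/-- fixing six points of the octad means fixing all eight -/
theorem fix_all {g : G} (ga : Commute g a) (gb : Commute g b) (gc : Commute g c)
    (gu : Commute g (C.t.sp.pt C.u)) (gv : Commute g (C.t.sp.pt C.v)) {y : G} (hy : y ∈ O)
    (gy : Commute g y) (ha : y ≠ a) (hb' : y ≠ b) (hc : y ≠ c) (hu : y ≠ C.t.sp.pt C.u)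
    (hv : y ≠ C.t.sp.pt C.v) {o : G} (ho : o ∈ O) : Commute g o := by
  set g3 : ↥(C3 a b c) := ⟨g, mem_C3_iff.mpr ⟨ga, gb, gc⟩⟩
  obtain ⟨γ, hγ⟩ := QuotientGroup.mk_surjective (C.t.ψ g3)
  obtain ⟨l, hl, rfl⟩ := C.point_coord hy ha hb' hc hu
  have hl0 : l ≠ 0 := fun q => hv (by rw [q, zero_smul, zero_add])
  have eig : ∀ {x}, IsPt x → Commute g (C.t.sp.pt x) → ∃ r : K, act γ x = r • x := fun {x} hx hcom => by
    have e := C.t.conj_pt h.core g3 hγ.symm hx
    rw [hcom.eq, mul_inv_cancel_right] at e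
    exact (C.t.sp.same hx (act_pt γ hx)).mp e
  obtain ⟨r, hr⟩ := eig C.fr.hP gu
  obtain ⟨s, hs⟩ := eig (frame_pt_v C.fr) gv
  obtain ⟨m, hm⟩ := eig hl gy
  rw [act_add, act_smul, hr, hs, smul_add, smul_smul, smul_smul] at hm
  have e1 := congrArg (fun x => hb x C.w) hm
  simp only [hb_add_left, hb_smul_left, C.fr.pf1, C.fr.ef1, mul_zero, zero_add, mul_one] at e1
  rw [e1] at hm
  have e2 : l * r = m * l := smul_left_injective K C.fr.hP.1 (add_right_cancel hm)
  have hrm : r = m := mul_left_cancel₀ hl0 (e2.trans (mul_comm m l))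
  rcases (mem_octSet C.t C.fr).mp (C.memO.mp ho) with rfl | rfl | rfl | ⟨x, hx, hxs, rfl⟩
  · exact ga
  · exact gb
  · exact gc
  obtain ⟨k, rfl⟩ := (Submodule.mem_span_range_iff_exists_fun K).mp hxs
  have e := C.t.conj_pt h.core g3 hγ.symm hx
  have hact : act γ (∑ i, k i • ![C.u, C.v] i) = m • ∑ i, k i • ![C.u, C.v] i := by
    simp only [Fin.sum_univ_two, Matrix.cons_val_zero, Matrix.cons_val_one]
    rw [act_add, act_smul, act_smul, hr, hs, hrm, e1, smul_add, smul_smul, smul_smul, smul_smul,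
      smul_smul, mul_comm (k 0), mul_comm (k 1)]
  have hm0 : m ≠ 0 := fun q => (act_pt γ hx).1 (by rw [hact, q, zero_smul])
  obtain ⟨-, e'⟩ := C.t.sp.smul_pt hm0 hx
  rw [hact, e'] at e
  exact mul_inv_eq_iff_eq_mul.mp e

end Coord

/-! ### the eight points -/

namespace IsFlag

variable [Finite G] {O A : Set G}

/-- the permutations of the eight points -/
noncomputable def perm (e : M8 ≃ ↥O) : ↥(flagSub O A) →* Perm M8 :=
  MonoidHom.mk'
    (fun g => (e.trans
      { toFun := fun x : ↥O => ⟨(g : G) * x * (g : G)⁻¹,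
          (Set.ext_iff.mp g.2.1 _).mp ⟨(x : G), x.2, rfl⟩⟩
        invFun := fun x : ↥O => ⟨(g : G)⁻¹ * x * (g : G),
          mem_conjSet.mp ((Set.ext_iff.mp g.2.1 _).mpr x.2)⟩
        left_inv := fun x => Subtype.ext (by group)
        right_inv := fun x => Subtype.ext (by group) }).trans e.symm)
    (fun g k => Equiv.ext fun i => by
      show e.symm _ = e.symm _
      congr 1
      apply Subtype.ext
      simp only [Equiv.apply_symm_apply, Equiv.trans_apply, Equiv.coe_fn_mk]
      simp [mul_assoc])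

theorem perm_apply (e : M8 ≃ ↥O) (g : ↥(flagSub O A)) (i : M8) :
    (e (perm e g i) : G) = (g : G) * e i * (g : G)⁻¹ :=
  show (e (e.symm _) : G) = _ by rw [Equiv.apply_symm_apply]; rfl

theorem perm_fixed (e : M8 ≃ ↥O) (g : ↥(flagSub O A)) (i : M8) :
    perm e g i = i ↔ Commute (g : G) (e i) := by
  constructor
  · intro q
    have := perm_apply e g i
    rw [q] at this
    exact mul_inv_eq_iff_eq_mul.mp this.symm
  · intro q
    refine e.injective (Subtype.ext ?_)
    rw [perm_apply, q.eq, mul_inv_cancel_right]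

variable (hF : IsFlag D O A) (h : Hyp D) (e : M8 ≃ ↥O)

include hF h

theorem exists_double_perm {p q r s : M8} (hpq : p ≠ q) (hpr : p ≠ r) (hps : p ≠ s) (hqr : q ≠ r)
    (hqs : q ≠ s) (hrs : r ≠ s) :
    ∃ g : ↥(flagSub O A), g * g = 1 ∧ perm e g = swap p q * swap r s := by
  classical
  set rest := (Finset.univ : Finset M8) \ {p, q, r, s} with hrest
  have hc : rest.card = 4 := by
    rw [hrest, Finset.card_sdiff_of_subset (Finset.subset_univ _)]
    simp [hpq, hpr, hps, hqr, hqs, hrs]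
  let y : Fin 4 → M8 := fun i => ((rest.equivFinOfCardEq hc).symm i : M8)
  have yi : Function.Injective y := fun i j q => (rest.equivFinOfCardEq hc).symm.injective (Subtype.ext q)
  have yne : ∀ i, y i ≠ p ∧ y i ≠ q ∧ y i ≠ r ∧ y i ≠ s := fun i => by
    have := (Finset.mem_sdiff.mp ((rest.equivFinOfCardEq hc).symm i).2).2
    simp only [Finset.mem_insert, Finset.mem_singleton, not_or] at this
    exact this
  let x : Fin 5 → G := fun i => (e (Fin.snoc (α := fun _ => M8) y p i) : G)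
  have xi : Function.Injective x := fun i j q => by
    have := e.injective (Subtype.ext q)
    refine (Fin.snoc_injective_iff.mpr ⟨yi, fun ⟨k, hk⟩ => (yne k).1 hk⟩) this
  obtain ⟨K, iK, iKF, hK, C, eu, ev⟩ := h.exists_coord hF xi fun i => (e _).2
  have ne' : ∀ {i j : M8}, i ≠ j → (e i : G) ≠ e j := fun hij q => hij (e.injective (Subtype.ext q))
  obtain ⟨g, hg, hsq, ga, gb, gc, gu, gv, hfixd⟩ := C.exists_double h (β := (e q : G)) (e q).2
    (ne' (yne 0).2.1.symm) (ne' (yne 1).2.1.symm) (ne' (yne 2).2.1.symm)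
    (eu ▸ ne' (yne 3).2.1.symm) (ev ▸ ne' hpq.symm)
  refine ⟨⟨g, hg⟩, Subtype.ext hsq, ?_⟩
  set π := perm e (⟨g, hg⟩ : ↥(flagSub O A)) with hπ
  have hinv : ∀ i, π (π i) = i := fun i => by
    have : π * π = 1 := by
      rw [hπ, ← map_mul, show (⟨g, hg⟩ : ↥(flagSub O A)) * ⟨g, hg⟩ = 1 from Subtype.ext hsq, map_one]
    exact congrFun (congrArg (fun f : Perm M8 => (f : M8 → M8)) this) i
  have hy : ∀ k, π (y k) = y k := fun k => by
    rw [hπ, perm_fixed]
    fin_cases k
    · exact ga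
    · exact gb
    · exact gc
    · show Commute g (x 3)
      rw [← eu]; exact gu
  have hp : π p = q := by
    refine e.injective (Subtype.ext ?_)
    rw [hπ, perm_apply]
    rwa [ev] at gv
  have hq : π q = p := by rw [← hp, hinv]
  have hfixed : ∀ i, π i = i → ∃ k, i = y k := fun i hi => by
    rw [hπ, perm_fixed] at hi
    rw [eu] at hfixd
    rcases hfixd _ (e i).2 hi with q | q | q | q
    exacts [⟨0, e.injective (Subtype.ext q)⟩, ⟨1, e.injective (Subtype.ext q)⟩,
      ⟨2, e.injective (Subtype.ext q)⟩, ⟨3, e.injective (Subtype.ext q)⟩]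
  have hcov : ∀ i : M8, i = p ∨ i = q ∨ i = r ∨ i = s ∨ ∃ k, i = y k := fun i => by
    by_cases hi : i ∈ rest
    · exact Or.inr (Or.inr (Or.inr (Or.inr ⟨rest.equivFinOfCardEq hc ⟨i, hi⟩, by simp [y]⟩)))
    · simp only [hrest, Finset.mem_sdiff, Finset.mem_univ, true_and, not_not, Finset.mem_insert,
        Finset.mem_singleton] at hi
      rcases hi with q | q | q | q <;> simp [q]
  have hr : π r = s := by
    have notr : π r ≠ r := fun q => by obtain ⟨k, hk⟩ := hfixed r q; exact (yne k).2.2.1 hk.symm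
    rcases hcov (π r) with q' | q' | q' | q' | ⟨k, hk⟩
    · exact absurd ((hinv r).symm.trans ((congrArg π q').trans hp)) hqr.symm
    · exact absurd ((hinv r).symm.trans ((congrArg π q').trans hq)) hpr.symm
    · exact absurd q' notr
    · exact q'
    · exact absurd ((hinv r).symm.trans ((congrArg π hk).trans (hy k))) (yne k).2.2.1.symm
  have hs : π s = r := by rw [← hr, hinv]
  refine Equiv.ext fun i => ?_
  rw [Perm.mul_apply]
  rcases hcov i with rfl | rfl | rfl | rfl | ⟨k, rfl⟩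
  · rw [swap_apply_of_ne_of_ne hpr hps, swap_apply_left, hp]
  · rw [swap_apply_of_ne_of_ne hqr hqs, swap_apply_right, hq]
  · rw [swap_apply_left, swap_apply_of_ne_of_ne hps.symm hqs.symm, hr]
  · rw [swap_apply_right, swap_apply_of_ne_of_ne hpr.symm hqr.symm, hs]
  · obtain ⟨a1, a2, a3, a4⟩ := yne k
    rw [swap_apply_of_ne_of_ne a3 a4, swap_apply_of_ne_of_ne a1 a2, hy]

theorem perm_ne_swap {p q : M8} (hpq : p ≠ q) (g : ↥(flagSub O A)) : perm e g ≠ swap p q := by
  classical
  intro hg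
  set rest := (Finset.univ : Finset M8) \ {p, q} with hrest
  have hc : rest.card = 6 := by
    rw [hrest, Finset.card_sdiff_of_subset (Finset.subset_univ _)]
    simp [hpq]
  let y : Fin 6 → M8 := fun i => ((rest.equivFinOfCardEq hc).symm i : M8)
  have yi : Function.Injective y := fun i j q => (rest.equivFinOfCardEq hc).symm.injective (Subtype.ext q)
  have fixd : ∀ i, Commute (g : G) (e (y i)) := fun i => by
    have := (Finset.mem_sdiff.mp ((rest.equivFinOfCardEq hc).symm i).2).2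
    simp only [Finset.mem_insert, Finset.mem_singleton, not_or] at this
    rw [← perm_fixed, hg, swap_apply_of_ne_of_ne this.1 this.2]
  let x : Fin 5 → G := fun i => (e (y i.castSucc) : G)
  have xi : Function.Injective x := fun i j q =>
    Fin.castSucc_injective _ (yi (e.injective (Subtype.ext q)))
  obtain ⟨K, iK, iKF, hK, C, eu, ev⟩ := h.exists_coord hF xi fun i => (e _).2
  have ne' : ∀ i : Fin 5, (e (y 5) : G) ≠ x i := fun i q =>
    Fin.castSucc_ne_last i (yi (e.injective (Subtype.ext q))).symm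
  have := C.fix_all h (fixd _) (fixd _) (fixd _) (eu ▸ fixd _) (ev ▸ fixd _) (e (y 5)).2 (fixd 5)
    (ne' 0) (ne' 1) (ne' 2) (eu ▸ ne' 3) (ev ▸ ne' 4) (e p).2
  rw [← perm_fixed, hg, swap_apply_left] at this
  exact hpq this.symm

theorem mem_range_of_even {σ : Perm M8} (hσ : σ ∈ alternatingGroup M8) :
    σ ∈ (perm (A := A) e).range := by
  have hz : ∀ i : Fin 6, H99.BoundedPres.zPerm i ∈ (perm (A := A) e).range := by
    intro i
    obtain ⟨r, s, hir, his, hrs⟩ : ∃ r s : Fin 6, i ≠ r ∧ i ≠ s ∧ r ≠ s := by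
      fin_cases i <;> decide
    obtain ⟨g1, -, e1⟩ := hF.exists_double_perm h e (p := Sum.inl 0) (q := Sum.inl 1) (r := Sum.inr r)
      (s := Sum.inr s) (by simp) (by simp) (by simp) (by simp) (by simp) (by simpa using hrs)
    obtain ⟨g2, -, e2⟩ := hF.exists_double_perm h e (p := Sum.inr r) (q := Sum.inr s) (r := Sum.inl 1)
      (s := Sum.inr i) (by simpa using hrs) (by simp) (by simpa using hir.symm) (by simp)
      (by simpa using his.symm) (by simp)
    refine ⟨g1 * g2, ?_⟩
    rw [map_mul, e1, e2, H99.BoundedPres.zPerm, mul_assoc, ← mul_assoc (swap (Sum.inr r) _),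
      swap_mul_self, one_mul]
  have hle : (Subgroup.closure (Set.range (H99.BoundedPres.zA (I := Fin 6)))).map
      (alternatingGroup M8).subtype ≤ (perm (A := A) e).range := by
    rw [MonoidHom.map_closure, Subgroup.closure_le]
    rintro _ ⟨_, ⟨i, rfl⟩, rfl⟩
    exact hz i
  rw [H99.BoundedPres.zA_gen] at hle
  exact hle ⟨⟨σ, hσ⟩, trivial, rfl⟩

theorem perm_even (g : ↥(flagSub O A)) : perm e g ∈ alternatingGroup M8 := by
  by_contra hg
  have hodd : Perm.sign (perm e g) = -1 := by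
    rcases Int.units_eq_one_or (Perm.sign (perm e g)) with q | q
    · exact absurd (Perm.mem_alternatingGroup.mpr q) hg
    · exact q
  have hev : perm e g * swap (Sum.inl 0) (Sum.inl 1) ∈ alternatingGroup M8 := by
    rw [Perm.mem_alternatingGroup, Perm.sign_mul, hodd, Perm.sign_swap (by simp)]
    decide
  obtain ⟨k, hk⟩ := hF.mem_range_of_even h e hev
  refine hF.perm_ne_swap h e (p := Sum.inl 0) (q := Sum.inl 1) (by simp) (g⁻¹ * k) ?_
  rw [map_mul, map_inv, hk, inv_mul_cancel_left]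

end IsFlag

end Cfsg.Agent.H64.M24Triple
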