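import Mathlib

/-!
Products over subsets of a finite family of commuting involutions, indexed by vectors over the field
with two elements.
-/

set_option autoImplicit false

namespace Cfsg.Agent.H64.M24Triple

variable {ι : Type*} [Fintype ι] {M : Type*} [Monoid M]

theorem wd_aux (f : ι → M) (hc : ∀ i j, Commute (f i) (f j)) (c : ι → ZMod 2) :
    (↑(Finset.univ : Finset ι) : Set ι).Pairwise
      (Function.onFun Commute fun i => f i ^ (c i).val) :=
  fun i _ j _ _ => (hc i j).pow_pow _ _

/-- the product over the support of a vector -/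
noncomputable def wd (f : ι → M) (hc : ∀ i j, Commute (f i) (f j)) (c : ι → ZMod 2) : M :=
  Finset.univ.noncommProd (fun i => f i ^ (c i).val) (wd_aux f hc c)

theorem pow_val_add {x : M} (hx : x * x = 1) (a b : ZMod 2) :
    x ^ (a + b).val = x ^ a.val * x ^ b.val := by
  rw [← pow_add, ZMod.val_add, ← pow_eq_pow_mod _ (by rw [pow_two, hx])]

variable {f : ι → M} {hc : ∀ i j, Commute (f i) (f j)}

theorem wd_add (hsq : ∀ i, f i * f i = 1) (c c' : ι → ZMod 2) :
    wd f hc (c + c') = wd f hc c * wd f hc c' := by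
  have := Finset.noncommProd_mul_distrib (s := (Finset.univ : Finset ι)) (fun i => f i ^ (c i).val)
    (fun i => f i ^ (c' i).val) (fun i _ j _ _ => (hc i j).pow_pow _ _)
    (fun i _ j _ _ => (hc i j).pow_pow _ _) (fun i _ j _ _ => (hc i j).pow_pow _ _)
  rw [wd, wd, wd, ← this]
  exact Finset.noncommProd_congr rfl (fun i _ => pow_val_add (hsq i) _ _) _

theorem wd_zero : wd f hc 0 = 1 := by
  rw [wd, Finset.noncommProd_eq_pow_card _ _ _ 1 (by simp), one_pow]

theorem wd_single [DecidableEq ι] (i : ι) : wd f hc (Pi.single i 1) = f i := by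
  have e1 : ∀ x : ι, f x ^ ((Pi.single i 1 : ι → ZMod 2) x).val = if x = i then f i else 1 := fun x => by
    by_cases h : x = i
    · subst h; simp [show (1 : ZMod 2).val = 1 from rfl]
    · simp [h]
  rw [wd]
  refine (Finset.noncommProd_congr (Finset.insert_erase (Finset.mem_univ i)).symm (fun x _ => e1 x)
    _).trans ?_
  refine (Finset.noncommProd_insert_of_notMem _ _ _ _ (Finset.notMem_erase i _)).trans ?_
  rw [if_pos rfl]
  refine (congrArg (f i * ·) (Finset.noncommProd_eq_pow_card _ _ _ 1 fun x hx => ?_)).trans ?_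
  · exact if_neg (Finset.ne_of_mem_erase hx)
  · rw [one_pow, mul_one]

theorem wd_comm (hsq : ∀ i, f i * f i = 1) (c c' : ι → ZMod 2) :
    Commute (wd f hc c) (wd f hc c') := by
  show _ = _
  rw [← wd_add hsq, ← wd_add hsq, add_comm]

theorem wd_sq (hsq : ∀ i, f i * f i = 1) (c : ι → ZMod 2) : wd f hc c * wd f hc c = 1 := by
  rw [← wd_add hsq, show c + c = 0 from funext fun i => CharTwo.add_self_eq_zero _, wd_zero]

theorem zmod2_cases (a : ZMod 2) : a = 0 ∨ a = 1 := by revert a; decide

/-- two additive functions into a monoid agree when they agree on unit vectors -/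
theorem hom_ext [DecidableEq ι] {N : Type*} [Monoid N] {φ φ' : (ι → ZMod 2) → N}
    (h0 : φ 0 = φ' 0) (hφ : ∀ c c', φ (c + c') = φ c * φ c')
    (hφ' : ∀ c c', φ' (c + c') = φ' c * φ' c')
    (h : ∀ i, φ (Pi.single i 1) = φ' (Pi.single i 1)) (c : ι → ZMod 2) : φ c = φ' c := by
  rw [← Finset.univ_sum_single c]
  induction (Finset.univ : Finset ι) using Finset.induction with
  | empty => simpa using h0
  | @insert i s hi ih =>
    rw [Finset.sum_insert hi, hφ, hφ', ih]
    congr 1
    rcases zmod2_cases (c i) with e | e <;> rw [e]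
    · simpa using h0
    · exact h i

/-- the word of a list of distinct indices -/
theorem wd_list [DecidableEq ι] (hsq : ∀ i, f i * f i = 1) : ∀ l : List ι,
    wd f hc (l.map fun i => (Pi.single i 1 : ι → ZMod 2)).sum = (l.map f).prod
  | [] => by simpa using wd_zero
  | i :: l => by
    rw [List.map_cons, List.sum_cons, wd_add hsq, wd_single, wd_list hsq l, List.map_cons,
      List.prod_cons]

/-- a word is the product over its support -/
theorem wd_eq_prod [DecidableEq ι] (hsq : ∀ i, f i * f i = 1) (c : ι → ZMod 2) :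
    wd f hc c = ((Finset.univ.filter fun i => c i ≠ 0).toList.map f).prod := by
  rw [← wd_list (hc := hc) hsq, Finset.sum_map_toList]
  congr 1
  rw [Finset.sum_filter]
  conv_lhs => rw [← Finset.univ_sum_single c]
  refine Finset.sum_congr rfl fun i _ => ?_
  rcases zmod2_cases (c i) with e | e <;> simp [e]

theorem mem_closure_wd {G : Type*} [Group G] {f : ι → G} {hc : ∀ i j, Commute (f i) (f j)}
    (c : ι → ZMod 2) {K : Subgroup G} (h : ∀ i, c i ≠ 0 → f i ∈ K) : wd f hc c ∈ K := by
  refine Subgroup.noncommProd_mem _ _ fun i _ => ?_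
  by_cases e : c i = 0
  · rw [e, ZMod.val_zero, pow_zero]; exact K.one_mem
  · exact K.pow_mem (h i e) _

end Cfsg.Agent.H64.M24Triple
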