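import Cfsg.Agent.H64.M24Triple.Residue
import Cfsg.Agent.H64.M24Triple.Word
import Cfsg.Agent.H64.M24Triple.Code

/-!
The twenty-four pairwise commuting members of a triple and a plane: all dependencies have even length.
-/

set_option autoImplicit false

namespace Cfsg.Agent.H64.M24Triple

open Cfsg.Agent.H93

variable {G : Type*} [Group G] {D : Set G} {a b c : G} {K : Type*} [Field K] [Fintype K]
  {hK : Fintype.card K = 4}

namespace Tri

variable (t : Tri D a b c K hK)

include t

/-- members of the triple's neighbourhood are determined by their images -/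
theorem inj {y z : G} (hy : y ∈ T3 D a b c) (hz : z ∈ T3 D a b c)
    (e : t.ψ ⟨y, T3_mem_C3 hy⟩ = t.ψ ⟨z, T3_mem_C3 hz⟩) : y = z := by
  obtain ⟨u, hu, rfl⟩ := t.sp.surj y hy
  obtain ⟨v, hv, rfl⟩ := t.sp.surj z hz
  rw [t.eq hu, t.eq hv] at e
  exact (t.sp.same hu hv).mpr (SamePt.symm (ptv_eq hK hu hv.2 e) hu.1)

/-- conjugation in the centraliser of the triple is the linear action -/
theorem conj_pt (hcore : Core D) (g : ↥(C3 a b c)) {γ : ↥(Cfsg.SU 6 K 2)}
    (e : t.ψ g = QuotientGroup.mk γ) {v : Vec K} (hv : IsPt v) :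
    (g : G) * t.sp.pt v * (g : G)⁻¹ = t.sp.pt (act γ v) := by
  have hm : (g : G) * t.sp.pt v * (g : G)⁻¹ ∈ T3 D a b c := by
    obtain ⟨ga, gb, gc⟩ := mem_C3_iff.mp g.2
    have key : ∀ {x}, Commute (g : G) x → t.sp.pt v ∈ nb D x →
        (g : G) * t.sp.pt v * (g : G)⁻¹ ∈ nb D x := fun {x} hc hx => by
      have := hcore.tt.nb_conj (g : G) hx
      rwa [mul_inv_eq_iff_eq_mul.mpr hc.eq] at this
    exact ⟨⟨key ga (t.sp.mem hv).1.1, key gb (t.sp.mem hv).1.2⟩, key gc (t.sp.mem hv).2⟩
  refine t.inj hm (t.sp.mem (act_pt γ hv)) ?_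
  rw [t.eq (act_pt γ hv), ← ptv_conj hK γ v, ← e, ← t.eq hv, ← map_inv, ← map_mul, ← map_mul]
  rfl

/-- a word with trivial image is a product of members of the triple -/
theorem ker_word (hcore : Core D) (ht : IsTriple D a b c)
    (hc : ∀ i j : Fin 3, Commute (![a, b, c] i) (![a, b, c] j)) {x : ↥(C3 a b c)} (hx : t.ψ x = 1) :
    ∃ δ : Fin 3 → ZMod 2, (x : G) = wd ![a, b, c] hc δ := by
  have hsq : ∀ i : Fin 3, ![a, b, c] i * ![a, b, c] i = 1 := fun i => by
    fin_cases i
    exacts [hcore.tt.sq a ht.ha, hcore.tt.sq b ht.hb.1, hcore.tt.sq c ht.hca.1]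
  have hmem := (t.ker x).mp hx
  revert hmem
  generalize (x : G) = y
  intro hmem
  induction hmem using Subgroup.closure_induction with
  | mem y hy =>
    simp only [Set.mem_insert_iff, Set.mem_singleton_iff] at hy
    rcases hy with rfl | rfl | rfl
    · exact ⟨Pi.single 0 1, by rw [wd_single]; rfl⟩
    · exact ⟨Pi.single 1 1, by rw [wd_single]; rfl⟩
    · exact ⟨Pi.single 2 1, by rw [wd_single]; rfl⟩
  | one => exact ⟨0, wd_zero.symm⟩
  | mul y z _ _ ey ez =>
    obtain ⟨δ, eδ⟩ := ey
    obtain ⟨ε, eε⟩ := ez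
    exact ⟨δ + ε, by rw [wd_add hsq, ← eδ, ← eε]⟩
  | inv y _ ey =>
    obtain ⟨δ, eδ⟩ := ey
    exact ⟨δ, by rw [eδ, inv_eq_of_mul_eq_one_left (wd_sq hsq δ)]⟩

end Tri

theorem triple_comm (ht : IsTriple D a b c) (i j : Fin 3) :
    Commute (![a, b, c] i) (![a, b, c] j) := by
  fin_cases i <;> fin_cases j
  exacts [Commute.refl a, ht.hb.2.2, ht.hca.2.2, ht.hb.2.2.symm, Commute.refl b, ht.hcb.2.2,
    ht.hca.2.2.symm, ht.hcb.2.2.symm, Commute.refl c]

/-! ### coordinates in a plane -/

/-- omega -/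
noncomputable def om (hK : Fintype.card K = 4) : K := (exists_omega hK).choose

theorem om_eq (hK : Fintype.card K = 4) : om hK ^ 2 + om hK + 1 = 0 :=
  (exists_omega hK).choose_spec.2.2

theorem bval_bz (w : K) : bval w bz = 0 := by simp [bval, bz]

theorem bval_inj (hK : Fintype.card K = 4) : Function.Injective (bval (om hK)) :=
  (bval_bijective hK (om_eq hK)).1

theorem val_add_eq {x : K} (hK : Fintype.card K = 4) (p q : ZMod 2) :
    ((p + q).val : K) * x = (p.val : K) * x + (q.val : K) * x := by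
  have h11 := add_self_zero hK x
  rcases zmod2_cases p with rfl | rfl <;> rcases zmod2_cases q with rfl | rfl <;>
    simp [show (1 : ZMod 2).val = 1 from rfl, show ((1 : ZMod 2) + 1) = 0 from rfl, h11]

variable {P Q : Fin 3 → Vec K} (p : Plane P Q)

/-- the vector of a coded point -/
noncomputable def pv (hK : Fintype.card K = 4) (P : Fin 3 → Vec K) (k : Fin 21) : Vec K :=
  ∑ i, bval (om hK) (code k i) • P i

theorem pv_span (k : Fin 21) : pv hK P k ∈ Submodule.span K (Set.range P) :=
  Submodule.sum_mem _ fun i _ => Submodule.smul_mem _ _ (Submodule.subset_span ⟨i, rfl⟩)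

include p in
theorem pv_hbQ (k : Fin 21) (j : Fin 3) : hb (pv hK P k) (Q j) = bval (om hK) (code k j) := by
  rw [pv, p.sum3 hK, Finset.sum_eq_single j
    (fun i _ hi => by rw [p.dual' hK, if_neg hi.symm, mul_zero]) (by simp), p.dual' hK, if_pos rfl,
    mul_one]

include p in
theorem pv_pt (k : Fin 21) : IsPt (pv hK P k) := by
  refine ⟨fun e => ?_, p.hb_plane hK (pv_span k) (pv_span k)⟩
  obtain ⟨i, hi⟩ := code_ne k
  have := pv_hbQ (hK := hK) p k i
  rw [e, hb_zero_left, ← bval_bz (om hK)] at this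
  exact hi (bval_inj hK this).symm

include p in
theorem pv_inj {k l : Fin 21} (h : SamePt (pv hK P k) (pv hK P l)) : l = k := by
  obtain ⟨s, hs⟩ := h
  obtain ⟨s', rfl⟩ := (bval_bijective hK (om_eq hK)).2 s
  refine code_inj k l s' fun i => bval_inj hK ?_
  rw [bval_mul hK (om_eq hK), ← pv_hbQ (hK := hK) p l i, hs, hb_smul_left, pv_hbQ (hK := hK) p k i]

include p in
theorem pv_cover {v : Vec K} (hv : IsPt v) (hvP : v ∈ Submodule.span K (Set.range P)) :
    ∃ k, SamePt (pv hK P k) v := by
  obtain ⟨x, rfl⟩ := (Submodule.mem_span_range_iff_exists_fun K).mp hvP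
  obtain ⟨x0, e0⟩ := (bval_bijective hK (om_eq hK)).2 (x 0)
  obtain ⟨x1, e1⟩ := (bval_bijective hK (om_eq hK)).2 (x 1)
  obtain ⟨x2, e2⟩ := (bval_bijective hK (om_eq hK)).2 (x 2)
  obtain ⟨k, s, hs, k0, k1, k2⟩ := code_cover x0 x1 x2 (by
    intro e
    simp only [Prod.mk.injEq] at e
    refine hv.1 ?_
    rw [Fin.sum_univ_three, ← e0, ← e1, ← e2, e.1, e.2.1, e.2.2]
    simp [bval_bz])
  refine ⟨k, bval (om hK) s, ?_⟩
  rw [pv, Finset.smul_sum]
  refine Finset.sum_congr rfl fun i _ => ?_
  rw [smul_smul, ← bval_mul hK (om_eq hK)]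
  fin_cases i
  · show x 0 • P 0 = _; rw [← e0, k0]; rfl
  · show x 1 • P 1 = _; rw [← e1, k1]; rfl
  · show x 2 • P 2 = _; rw [← e2, k2]; rfl

include p in
theorem tv_pv_comm (k l : Fin 21) : Commute (tv hK (pv hK P k)) (tv hK (pv hK P l)) :=
  p.tvs_commute hK ⟨_, pv_pt (hK := hK) p k, pv_span k, rfl⟩ ⟨_, pv_pt (hK := hK) p l, pv_span l, rfl⟩

/-- the word of transvections -/
noncomputable def wS (S : Fin 21 → ZMod 2) : ↥(Cfsg.SU 6 K 2) :=
  wd (fun k => tv hK (pv hK P k)) (tv_pv_comm p) S

theorem wS_sq (S : Fin 21 → ZMod 2) : wS (hK := hK) p S * wS (hK := hK) p S = 1 :=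
  wd_sq (fun k => tv_mul_self hK _) S

theorem wS_fix (S : Fin 21 → ZMod 2) : p.Fix (wS (hK := hK) p S) := by
  intro i
  have hle : (wS (hK := hK) p S) ∈ Subgroup.closure (p.tvs hK) :=
    mem_closure_wd S fun k _ => Subgroup.subset_closure ⟨_, pv_pt (hK := hK) p k, pv_span k, rfl⟩
  revert hle
  generalize wS (hK := hK) p S = g
  intro hle
  induction hle using Subgroup.closure_induction with
  | mem x hx => obtain ⟨v, hv, hvP, rfl⟩ := hx; exact p.tv_fix hK hv.2 hvP i
  | one => exact act_one _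
  | mul x y _ _ hx hy => rw [act_mul, hy, hx]
  | inv x _ hx =>
      have := congrArg (act x⁻¹) hx
      rw [act_inv_left] at this
      exact this.symm

theorem bval_foldr (hK : Fintype.card K = 4) (l : List B4) :
    bval (om hK) (l.foldr badd bz) = (l.map (bval (om hK))).sum := by
  induction l with
  | nil => simp [bval_bz]
  | cons x l ih => rw [List.foldr_cons, bval_add hK, ih, List.map_cons, List.sum_cons]

theorem wS_H (S : Fin 21 → ZMod 2) (i j : Fin 3) :
    Plane.H (wS (hK := hK) p S) (Q i) (Q j) = bval (om hK) (hent S i j) := by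
  have e : bval (om hK) (hent S i j) = ∑ k : Fin 21, ((S k).val : K) *
      (bval (om hK) (code k i) * bval (om hK) (code k i) * bval (om hK) (code k j)) := by
    rw [hent, bval_foldr, List.map_map, Fin.sum_univ_def]
    refine congrArg List.sum (List.map_congr_left fun k _ => ?_)
    rcases zmod2_cases (S k) with q | q
    · simp [q, bval_bz]
    · simp [q, bval_mul hK (om_eq hK), show (1 : ZMod 2).val = 1 from rfl]
  rw [e]
  refine congrArg Multiplicative.toAdd (hom_ext (N := Multiplicative K)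
    (φ := fun S => Multiplicative.ofAdd (Plane.H (wS (hK := hK) p S) (Q i) (Q j)))
    (φ' := fun S => Multiplicative.ofAdd (∑ k : Fin 21, ((S k).val : K) *
      (bval (om hK) (code k i) * bval (om hK) (code k i) * bval (om hK) (code k j))))
    ?_ (fun u v => ?_) (fun u v => ?_) (fun k => ?_) S)
  · refine congrArg Multiplicative.ofAdd ?_
    rw [wS, wd_zero, Plane.H, act_one, vec_add_self hK, hb_zero_left]
    simp
  · rw [← ofAdd_add, ← p.H_mul hK (wS_fix p u) (wS_fix p v), wS, wd_add (fun k => tv_mul_self hK _)]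
    rfl
  · rw [← ofAdd_add, ← Finset.sum_add_distrib]
    exact congrArg _ (Finset.sum_congr rfl fun k _ => val_add_eq hK _ _)
  · refine congrArg Multiplicative.ofAdd ?_
    rw [wS, wd_single, p.H_tv hK (pv_pt (hK := hK) p k).2, pv_hbQ p, hb_conj hK (pv hK P k) (Q i), pv_hbQ p,
      Finset.sum_eq_single k (fun l _ hl => by rw [Pi.single_eq_of_ne hl]; simp) (by simp),
      Pi.single_eq_same, show (1 : ZMod 2).val = 1 from rfl, Nat.cast_one, one_mul, pow_two]

/-! ### the twenty-four members -/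

variable (t : Tri D a b c K hK)

/-- the members -/
noncomputable def fA : Fin 3 ⊕ Fin 21 → G :=
  Sum.elim ![a, b, c] fun k => t.sp.pt (pv hK P k)

variable (hcore : Core D) (ht : IsTriple D a b c)

include ht p in
theorem fA_comm : ∀ i j, Commute (fA (P := P) t i) (fA (P := P) t j) := by
  have h3 : ∀ (i : Fin 3) (k : Fin 21), Commute (![a, b, c] i) (t.sp.pt (pv hK P k)) := fun i k => by
    have := mem_C3_iff.mp (T3_mem_C3 (t.sp.mem (pv_pt (hK := hK) p k)))
    fin_cases i
    exacts [this.1.symm, this.2.1.symm, this.2.2.symm]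
  rintro (i | i) (j | j)
  · exact triple_comm ht i j
  · exact h3 i j
  · exact (h3 j i).symm
  · exact (t.sp.comm (pv_pt (hK := hK) p i) (pv_pt (hK := hK) p j)).mpr (p.hb_plane hK (pv_span i) (pv_span j))

include ht p in
theorem fA_mem : ∀ i, fA (P := P) t i ∈ D := by
  rintro (i | k)
  · fin_cases i
    exacts [ht.ha, ht.hb.1, ht.hca.1]
  · exact (t.sp.mem (pv_pt (hK := hK) p k)).1.1.1

include hcore ht p in
theorem fA_sq : ∀ i, fA (P := P) t i * fA (P := P) t i = 1 :=
  fun i => hcore.tt.sq _ (fA_mem p t ht i)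

include ht p in
theorem fA_inj : Function.Injective (fA (P := P) t) := by
  refine Function.Injective.sumElim ?_ (fun k l e => ?_) fun i k => ?_
  · intro i j e
    fin_cases i <;> fin_cases j
    all_goals first
      | rfl
      | (exfalso; simp at e; exact ht.hb.2.1 e)
      | (exfalso; simp at e; exact ht.hb.2.1 e.symm)
      | (exfalso; simp at e; exact ht.hca.2.1 e)
      | (exfalso; simp at e; exact ht.hca.2.1 e.symm)
      | (exfalso; simp at e; exact ht.hcb.2.1 e)
      | (exfalso; simp at e; exact ht.hcb.2.1 e.symm)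
  · exact pv_inj (hK := hK) p ((t.sp.same (pv_pt (hK := hK) p l) (pv_pt (hK := hK) p k)).mp e.symm)
  · have h := t.sp.mem (pv_pt (hK := hK) p k)
    fin_cases i
    exacts [h.1.1.2.1.symm, h.1.2.2.1.symm, h.2.2.1.symm]

/-- the word -/
noncomputable def W (x : Fin 3 ⊕ Fin 21 → ZMod 2) : G := wd (fA (P := P) t) (fA_comm p t ht) x

/-- the parity -/
def par {ι : Type*} [Fintype ι] (x : ι → ZMod 2) : ZMod 2 := ∑ i, x i

include hcore in
theorem W_add (x y : Fin 3 ⊕ Fin 21 → ZMod 2) : W p t ht (x + y) = W p t ht x * W p t ht y :=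
  wd_add (fA_sq p t hcore ht) x y

theorem W_single (i : Fin 3 ⊕ Fin 21) : W p t ht (Pi.single i 1) = fA (P := P) t i := wd_single i

theorem W_mem_C3 (x : Fin 3 ⊕ Fin 21 → ZMod 2) : W p t ht x ∈ C3 a b c := by
  refine mem_closure_wd x fun i _ => ?_
  rcases i with i | k
  · fin_cases i
    exacts [ht.memA, ht.memB, ht.memC]
  · exact T3_mem_C3 (t.sp.mem (pv_pt (hK := hK) p k))

include hcore in
theorem psi_W (x : Fin 3 ⊕ Fin 21 → ZMod 2) :
    t.ψ ⟨W p t ht x, W_mem_C3 p t ht x⟩ =
      (QuotientGroup.mk (wS (hK := hK) p fun k => x (Sum.inr k)) : Cfsg.PSU 6 K 2) := by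
  refine hom_ext (φ := fun x => t.ψ ⟨W p t ht x, W_mem_C3 p t ht x⟩)
    (φ' := fun x => (QuotientGroup.mk (wS (hK := hK) p fun k => x (Sum.inr k)) : Cfsg.PSU 6 K 2))
    ?_ (fun u v => ?_) (fun u v => ?_) (fun i => ?_) x
  · show _ = (QuotientGroup.mk (wd _ _ (0 : Fin 21 → ZMod 2)) : Cfsg.PSU 6 K 2)
    rw [wd_zero, QuotientGroup.mk_one, ← map_one t.ψ]
    exact congrArg t.ψ (Subtype.ext (show W p t ht 0 = 1 from wd_zero))
  · rw [← map_mul]
    exact congrArg t.ψ (Subtype.ext (W_add p t hcore ht u v))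
  · rw [← QuotientGroup.mk_mul]
    exact congrArg _ (wd_add (fun k => tv_mul_self hK _) _ _)
  · rcases i with i | k
    · rw [show (fun k => (Pi.single (Sum.inl i) 1 : Fin 3 ⊕ Fin 21 → ZMod 2) (Sum.inr k)) = 0 from
        funext fun k => Pi.single_eq_of_ne (by simp) _, wS, wd_zero, QuotientGroup.mk_one, t.ker]
      show W p t ht (Pi.single (Sum.inl i) (1 : ZMod 2)) ∈ _
      rw [W_single]
      refine Subgroup.subset_closure ?_
      fin_cases i <;> simp [fA]
    · rw [show (fun l => (Pi.single (Sum.inr k) 1 : Fin 3 ⊕ Fin 21 → ZMod 2) (Sum.inr l)) =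
        Pi.single k 1 from funext fun l => by
          by_cases h : l = k
          · subst h; simp
          · simp [h], wS, wd_single]
      refine Eq.trans (congrArg t.ψ (Subtype.ext ?_)) (t.eq (pv_pt (hK := hK) p k))
      show W p t ht (Pi.single (Sum.inr k) (1 : ZMod 2)) = _
      exact W_single p t ht _

variable (hind : Indep D 7)

include hcore hind in
theorem W_short {x : Fin 3 ⊕ Fin 21 → ZMod 2} (hx : W p t ht x = 1)
    (h7 : (Finset.univ.filter fun i => x i ≠ 0).card ≤ 7) : x = 0 := by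
  classical
  by_contra hne
  rw [W, wd_eq_prod (fA_sq p t hcore ht)] at hx
  refine hind _ ((Finset.nodup_toList _).map (fA_inj p t ht)) ?_ (by simpa using h7) ?_ ?_ hx
  · simp only [ne_eq, List.map_eq_nil_iff, Finset.toList_eq_nil]
    intro e
    refine hne (funext fun i => ?_)
    by_contra q
    have : i ∈ Finset.univ.filter fun i => x i ≠ 0 := Finset.mem_filter.mpr ⟨Finset.mem_univ _, q⟩
    rw [e] at this
    simp at this
  · rintro _ hy
    obtain ⟨i, -, rfl⟩ := List.mem_map.mp hy
    exact fA_mem p t ht i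
  · rintro _ hy _ hz
    obtain ⟨i, -, rfl⟩ := List.mem_map.mp hy
    obtain ⟨j, -, rfl⟩ := List.mem_map.mp hz
    exact fA_comm p t ht i j

theorem supp_card (δ : Fin 3 → ZMod 2) (S : Fin 21 → ZMod 2) :
    (Finset.univ.filter fun i => Sum.elim δ S i ≠ 0).card =
      (Finset.univ.filter fun i => δ i ≠ 0).card + (Finset.univ.filter fun k => S k ≠ 0).card := by
  rw [Finset.card_filter, Finset.card_filter, Finset.card_filter, Fintype.sum_sum_type]
  rfl

theorem par_elim (δ : Fin 3 → ZMod 2) (S : Fin 21 → ZMod 2) :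
    par (Sum.elim δ S) = par δ + par S := Fintype.sum_sum_type _

theorem par_eq_card {ι : Type*} [Fintype ι] (x : ι → ZMod 2) :
    par x = ((Finset.univ.filter fun i => x i ≠ 0).card : ZMod 2) := by
  rw [par, Finset.card_filter, Nat.cast_sum]
  refine Finset.sum_congr rfl fun i _ => ?_
  rcases zmod2_cases (x i) with e | e <;> simp [e]

include hcore in
/-- a word whose form vanishes has image one -/
theorem exists_delta {S : Fin 21 → ZMod 2} (hS : ∀ i j, hent S i j = bz) :
    ∃ δ : Fin 3 → ZMod 2, W p t ht (Sum.elim δ S) = 1 := by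
  have h1 : wS (hK := hK) p S = 1 := by
    refine p.inj hK (wS_fix p S) (fun i => act_one _) fun i j => ?_
    rw [wS_H, hS, bval_bz, Plane.H, act_one, vec_add_self hK, hb_zero_left]
  have hψ : t.ψ ⟨_, W_mem_C3 p t ht (Sum.elim 0 S)⟩ = 1 := by
    rw [psi_W p t hcore ht]
    show (QuotientGroup.mk (wS (hK := hK) p S) : Cfsg.PSU 6 K 2) = 1
    rw [h1]; rfl
  obtain ⟨δ, e⟩ := t.ker_word hcore ht (triple_comm ht) hψ
  have e3 : W p t ht (Sum.elim δ 0) = wd ![a, b, c] (triple_comm ht) δ := by
    refine hom_ext (φ := fun δ => W p t ht (Sum.elim δ 0))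
      (φ' := wd ![a, b, c] (triple_comm ht)) ?_ (fun u v => ?_) (wd_add fun i => ?_) (fun i => ?_) δ
    · show W p t ht (Sum.elim 0 0) = _
      rw [show Sum.elim (0 : Fin 3 → ZMod 2) (0 : Fin 21 → ZMod 2) = 0 from
        funext fun i => by cases i <;> rfl]
      exact wd_zero.trans wd_zero.symm
    · show W p t ht (Sum.elim (u + v) 0) = _
      rw [← W_add p t hcore ht]
      congr 1
      funext i; cases i <;> simp
    · fin_cases i
      exacts [hcore.tt.sq a ht.ha, hcore.tt.sq b ht.hb.1, hcore.tt.sq c ht.hca.1]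
    · show W p t ht (Sum.elim (Pi.single i 1) 0) = _
      rw [wd_single, show Sum.elim (Pi.single i 1 : Fin 3 → ZMod 2) (0 : Fin 21 → ZMod 2) =
        Pi.single (Sum.inl i) 1 from funext fun j => by
          rcases j with j | j
          · by_cases h : j = i
            · subst h; simp
            · simp [h]
          · simp, W_single]
      rfl
  refine ⟨δ, ?_⟩
  have e' : W p t ht (Sum.elim 0 S) = wd ![a, b, c] (triple_comm ht) δ := e
  have esum : Sum.elim δ S = Sum.elim δ (0 : Fin 21 → ZMod 2) + Sum.elim (0 : Fin 3 → ZMod 2) S := by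
    funext i
    rcases i with i | i
    · simp
    · simp
  rw [esum, W_add p t hcore ht, e3, e']
  exact wd_sq (fun i => by
    fin_cases i
    exacts [hcore.tt.sq a ht.ha, hcore.tt.sq b ht.hb.1, hcore.tt.sq c ht.hca.1]) δ

include hcore hind in
/-- the fifteen dependencies are even -/
theorem exists_rel (m : Fin 15) :
    ∃ δ : Fin 3 → ZMod 2, W p t ht (Sum.elim δ (rel m)) = 1 ∧ par (Sum.elim δ (rel m)) = 0 := by
  have five : ∀ m : Fin 15, m.1 < 12 → ∀ δ, W p t ht (Sum.elim δ (rel m)) = 1 → δ = fun _ => (1 : ZMod 2) := by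
    intro m hm δ hδ
    funext i
    by_contra q
    have hi : δ i = 0 := (zmod2_cases (δ i)).resolve_right q
    have h2 : (Finset.univ.filter fun i => δ i ≠ 0).card ≤ 2 := by
      refine le_trans (Finset.card_le_card (t := Finset.univ.erase i) fun j hj => ?_) (by simp)
      refine Finset.mem_erase.mpr ⟨fun e => (Finset.mem_filter.mp hj).2 (e ▸ hi), Finset.mem_univ _⟩
    have := W_short p t hcore ht hind hδ (by rw [supp_card, rel_five m hm]; omega)
    have h5 := rel_five m hm
    rw [show rel m = 0 from funext fun k => congrFun this (Sum.inr k)] at h5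
    simp at h5
  obtain ⟨δ, hδ⟩ := exists_delta p t hcore ht (rel_zero m)
  refine ⟨δ, hδ, ?_⟩
  rw [par_eq_card, supp_card]
  by_cases hm : m.1 < 12
  · rw [five m hm δ hδ, rel_five m hm]; decide
  obtain ⟨h6, h7⟩ := rel_six m (by omega)
  rw [h6]
  have hle : (Finset.univ.filter fun i => δ i ≠ 0).card ≤ 3 :=
    le_trans (Finset.card_filter_le _ _) (by simp)
  rcases Nat.lt_or_ge (Finset.univ.filter fun i => δ i ≠ 0).card 2 with h | h
  · exfalso
    have := W_short p t hcore ht hind hδ (by rw [supp_card, h6]; omega)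
    rw [show rel m = 0 from funext fun k => congrFun this (Sum.inr k)] at h6
    simp at h6
  rcases Nat.lt_or_ge (Finset.univ.filter fun i => δ i ≠ 0).card 3 with h' | h'
  · rw [show (Finset.univ.filter fun i => δ i ≠ 0).card = 2 by omega]; decide
  exfalso
  have hall : δ = fun _ => (1 : ZMod 2) := funext fun i => (zmod2_cases (δ i)).resolve_left fun q => by
    have hsub : (Finset.univ.filter fun i => δ i ≠ 0) ⊆ Finset.univ.erase i := fun j hj =>
      Finset.mem_erase.mpr ⟨fun e => (Finset.mem_filter.mp hj).2 (e ▸ q), Finset.mem_univ _⟩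
    have := Finset.card_le_card hsub
    rw [Finset.card_erase_of_mem (Finset.mem_univ _), Finset.card_univ, Fintype.card_fin] at this
    omega
  obtain ⟨δ0, hδ0⟩ := exists_delta p t hcore ht (rel_zero 0)
  rw [five 0 (by decide) δ0 hδ0] at hδ0
  have hsum : W p t ht (Sum.elim 0 (fun k => rel m k + rel 0 k)) = 1 := by
    rw [show Sum.elim (0 : Fin 3 → ZMod 2) (fun k => rel m k + rel 0 k) =
      Sum.elim δ (rel m) + Sum.elim (fun _ => 1) (rel 0) from funext fun i => by
        rcases i with i | k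
        · simp [hall]; decide
        · simp, W_add p t hcore ht, hδ, hδ0, one_mul]
  have := W_short p t hcore ht hind hsum (by
    rw [supp_card, h7]; simp)
  have e0 : ∀ k, rel m k + rel 0 k = 0 := fun k => congrFun this (Sum.inr k)
  simp [e0] at h7

include hcore hind in
/-- every word agrees with one on the triple and the nine basic points, of the same parity -/
theorem reduce (x : Fin 3 ⊕ Fin 21 → ZMod 2) :
    ∃ y : Fin 3 ⊕ Fin 21 → ZMod 2, W p t ht y = W p t ht x ∧ par y = par x ∧
      ∀ k : Fin 21, 9 ≤ k.1 → y (Sum.inr k) = 0 := by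
  choose δ hW hpar using exists_rel p t hcore ht hind
  let r : Fin 15 → Fin 3 ⊕ Fin 21 → ZMod 2 := fun m => Sum.elim (δ m) (rel m)
  let cf : Fin 15 → ZMod 2 := fun m => ∑ k : Fin 12, x (Sum.inr ⟨k.1 + 9, by omega⟩) * comb k m
  let z : Fin 3 ⊕ Fin 21 → ZMod 2 := fun i => ∑ m, cf m * r m i
  have hz : W p t ht z = 1 ∧ par z = 0 := by
    have key : ∀ s : Finset (Fin 15), W p t ht (fun i => ∑ m ∈ s, cf m * r m i) = 1 ∧
        par (fun i => ∑ m ∈ s, cf m * r m i) = 0 := by
      intro s
      induction s using Finset.induction with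
      | empty =>
        exact ⟨by simp only [Finset.sum_empty]; exact wd_zero, by simp [par]⟩
      | @insert m s hm ih =>
        have e : (fun i => ∑ l ∈ insert m s, cf l * r l i) =
            (fun i => cf m * r m i) + fun i => ∑ l ∈ s, cf l * r l i :=
          funext fun i => Finset.sum_insert hm
        rcases zmod2_cases (cf m) with q | q
        · rw [e, q, show (fun i => (0 : ZMod 2) * r m i) = 0 from funext fun i => zero_mul _, zero_add]
          exact ih
        · rw [e, q, show (fun i => (1 : ZMod 2) * r m i) = r m from funext fun i => one_mul _]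
          refine ⟨by rw [W_add p t hcore ht, ih.1, mul_one]; exact hW m, ?_⟩
          have h1 := hpar m
          have h2 := ih.2
          simp only [par] at h1 h2 ⊢
          simp only [Pi.add_apply, Finset.sum_add_distrib]
          rw [h2, add_zero]
          exact h1
    exact key Finset.univ
  refine ⟨x + z, by rw [W_add p t hcore ht, hz.1, mul_one], ?_, fun k hk => ?_⟩
  · have h2 := hz.2
    simp only [par] at h2 ⊢
    simp only [Pi.add_apply, Finset.sum_add_distrib]
    rw [h2, add_zero]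
  · obtain ⟨l, hl⟩ : ∃ l : Fin 12, k.1 = l.1 + 9 := ⟨⟨k.1 - 9, by omega⟩, by simp; omega⟩
    obtain rfl : k = ⟨l.1 + 9, Nat.add_lt_add_right l.2 9⟩ := Fin.ext hl
    show x _ + ∑ m, (∑ j : Fin 12, x (Sum.inr ⟨j.1 + 9, by omega⟩) * comb j m) * rel m _ = 0
    simp only [Finset.sum_mul, mul_assoc]
    rw [Finset.sum_comm]
    simp only [← Finset.mul_sum, comb_spec, mul_ite, mul_one, mul_zero, Finset.sum_ite_eq',
      Finset.mem_univ, if_true]
    exact CharTwo.add_self_eq_zero _

include hcore hind in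
/-- all dependencies are even -/
theorem parity_eq {x y : Fin 3 ⊕ Fin 21 → ZMod 2} (h : W p t ht x = W p t ht y) : par x = par y := by
  have h1 : W p t ht (x + y) = 1 := by
    rw [W_add p t hcore ht, h]; exact wd_sq (fA_sq p t hcore ht) y
  obtain ⟨z, hz, hpz, hz9⟩ := reduce p t hcore ht hind (x + y)
  rw [h1] at hz
  have hS : (fun k => z (Sum.inr k)) = 0 := by
    refine nine_indep _ hz9 fun i j => bval_inj hK ?_
    have e := psi_W p t hcore ht z
    have e1 : t.ψ ⟨_, W_mem_C3 p t ht z⟩ = 1 := by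
      rw [show (⟨_, W_mem_C3 p t ht z⟩ : ↥(C3 a b c)) = 1 from Subtype.ext hz, map_one]
    rw [e1] at e
    have g1 : wS (hK := hK) p (fun k => z (Sum.inr k)) = 1 :=
      mk_inj_of_sq hK (wS_sq p _) (one_mul 1) e.symm
    rw [← wS_H (hK := hK) p, g1, Plane.H, act_one, vec_add_self hK, hb_zero_left, bval_bz]
  have hz0 : z = 0 := W_short p t hcore ht hind hz (by
    rw [show z = Sum.elim (fun i => z (Sum.inl i)) (0 : Fin 21 → ZMod 2) from funext fun i => by
      rcases i with i | k
      · rfl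
      · exact congrFun hS k, supp_card]
    have := Finset.card_filter_le (Finset.univ : Finset (Fin 3)) fun i => z (Sum.inl i) ≠ 0
    simp at this ⊢
    omega)
  rw [hz0] at hpz
  have h0 : par x + par y = 0 := by
    simp only [par] at hpz ⊢
    rw [← Finset.sum_add_distrib]
    simpa using hpz.symm
  exact CharTwo.add_eq_zero.mp h0

include hcore hind in
/-- a word fixing the third dual vector is a word on the triple and the first line -/
theorem reduce_fix (x : Fin 3 ⊕ Fin 21 → ZMod 2) {γ : ↥(Cfsg.SU 6 K 2)} (hγ : γ * γ = 1)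
    (he : t.ψ ⟨_, W_mem_C3 p t ht x⟩ = QuotientGroup.mk γ) (hfix : act γ (Q 2) = Q 2) :
    ∃ y : Fin 3 ⊕ Fin 21 → ZMod 2, W p t ht y = W p t ht x ∧ par y = par x ∧
      ∀ k : Fin 21, y (Sum.inr k) ≠ 0 → code k 2 = bz := by
  obtain ⟨y, hy, hpy, hy9⟩ := reduce p t hcore ht hind x
  refine ⟨y, hy, hpy, nine_row _ hy9 fun j => bval_inj hK ?_⟩
  have e := psi_W p t hcore ht y
  have e1 : t.ψ ⟨_, W_mem_C3 p t ht y⟩ = QuotientGroup.mk γ := by
    rw [← he]; exact congrArg t.ψ (Subtype.ext hy)
  rw [e1] at e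
  have g1 : wS (hK := hK) p (fun k => y (Sum.inr k)) = γ :=
    mk_inj_of_sq hK (wS_sq p _) hγ e.symm
  rw [← wS_H (hK := hK) p, g1, Plane.H, hfix, vec_add_self hK, hb_zero_left, bval_bz]

end Cfsg.Agent.H64.M24Triple
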